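import Mathlib
import Groth.Agent.CotT.CI
import Groth.Agent.GLinFree.Dim
import Groth.Agent.Goren.LCI
import Groth.Agent.SyntLib.Regular
import Groth.Agent.HomogIdeal.Basic

/-!
# Hilbert function of a homogeneous complete intersection
-/

set_option autoImplicit false
set_option linter.style.haveILetI false

universe u

namespace Groth.Agent.CIHilb

open MvPolynomial IsLocalRing RingTheory.Sequence

variable {k : Type u} [Field k] {n c : ℕ}

local notation "S" => MvPolynomial (Fin (n + 1)) k

/-- The ideal generated by the forms before `j`. -/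
noncomputable def part (f : Fin c → MvPolynomial (Fin (n + 1)) k) (j : ℕ) : Ideal (MvPolynomial (Fin (n + 1)) k) :=
  Ideal.span (f '' {i | (i : ℕ) < j})

theorem part_isHomogeneous (f : Fin c → S) (d : Fin c → ℕ) (hf : ∀ i, (f i).IsHomogeneous (d i)) (j : ℕ) :
    (part f j).IsHomogeneous (CohB1.polyGrading n k) :=
  Ideal.homogeneous_span _ _ (by
    rintro _ ⟨i, -, rfl⟩
    exact ⟨d i, (mem_homogeneousSubmodule _ _).mpr (hf i)⟩)

theorem component_mul {g : S} {e : ℕ} (hg : g.IsHomogeneous e) (x : S) (i : ℕ) :
    homogeneousComponent (e + i) (g * x) = g * homogeneousComponent i x := by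
  conv_lhs => rw [← sum_homogeneousComponent x, Finset.mul_sum, map_sum]
  rw [Finset.sum_eq_single i]
  · rw [homogeneousComponent_of_mem (hg.mul (homogeneousComponent_isHomogeneous i x)), if_pos rfl]
  · intro j _ hj
    rw [homogeneousComponent_of_mem (hg.mul (homogeneousComponent_isHomogeneous j x)), if_neg (by omega)]
  · intro hi
    rw [homogeneousComponent_eq_zero i x (by simp only [Finset.mem_range] at hi; omega), mul_zero, map_zero]

/-- Forms cutting out a one dimensional cone form a regular sequence. -/
theorem mem_of_mul_mem (f : Fin n → MvPolynomial (Fin (n + 1)) k) (d : Fin n → ℕ) (hd : ∀ i, 1 ≤ d i)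
    (hf : ∀ i, (f i).IsHomogeneous (d i)) (hdim : ringKrullDim (S ⧸ Ideal.span (Set.range f)) = 1)
    (j : Fin n) (x : S) (hx : f j * x ∈ part f j) : x ∈ part f j := by
  let M := HomogIdeal.mIdeal k n
  let I := Ideal.span (Set.range f)
  have hIM : I ≤ M := Ideal.span_le.mpr (by
    rintro _ ⟨i, rfl⟩
    rw [SetLike.mem_coe, HomogIdeal.mem_mIdeal_iff, constantCoeff_eq]
    by_contra h0
    have h1 := hf i h0
    rw [map_zero] at h1
    exact absurd h1.symm (by have := hd i; omega))
  let R := Localization.AtPrime M
  haveI : IsRegularLocalRing R := IsRegularRing.isRegularLocalRing_localization (R := S) M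
  have hR : ringKrullDim R = ((n + 1 : ℕ) : WithBot ℕ∞) := by
    rw [IsLocalization.AtPrime.ringKrullDim_eq_height M, GLinFree.height_eq_of_isMaximal]
    rfl
  let F : Fin n → R := fun i => algebraMap S R (f i)
  have hI' : Ideal.ofList (List.ofFn F) = I.map (algebraMap S R) := by
    rw [CMFlat.ofList_ofFn, Ideal.map_span, ← Set.range_comp]
    rfl
  have hle : I.map (algebraMap S R) ≤ maximalIdeal R := by
    rw [← Localization.AtPrime.map_eq_maximalIdeal]
    exact Ideal.map_mono hIM
  have hne : I.map (algebraMap S R) ≠ ⊤ := fun h => (maximalIdeal.isMaximal R).ne_top (top_le_iff.mp (h.ge.trans hle))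
  have hlow := ringKrullDim_le_ringKrullDim_quotient_add_spanFinrank (R := R) (I := I.map (algebraMap S R))
    (hle.trans (ringJacobson_eq_maximalIdeal (R := R)).ge)
  have hspan : (I.map (algebraMap S R)).spanFinrank ≤ n := by
    rw [← hI', CMFlat.ofList_ofFn]
    refine (Submodule.spanFinrank_span_le_ncard_of_finite (Set.finite_range F)).trans ?_
    rw [← Nat.card_coe_set_eq]
    exact (Finite.card_range_le F).trans (Nat.card_fin n).le
  let P : Ideal (S ⧸ I) := M.map (Ideal.Quotient.mk I)
  have hPM : P.comap (Ideal.Quotient.mk I) = M := by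
    rw [Ideal.comap_map_of_surjective _ Ideal.Quotient.mk_surjective, ← RingHom.ker_eq_comap_bot, Ideal.mk_ker]
    exact sup_eq_left.mpr hIM
  haveI : P.IsPrime := Ideal.map_isPrime_of_surjective Ideal.Quotient.mk_surjective (by rwa [Ideal.mk_ker])
  have hup : ringKrullDim (R ⧸ I.map (algebraMap S R)) ≤ 1 := by
    obtain ⟨e⟩ := Goren.quot_localization S I P
    have h1 : ringKrullDim (Localization.AtPrime P) ≤ 1 := by
      rw [IsLocalization.AtPrime.ringKrullDim_eq_height P (Localization.AtPrime P), ← hdim]
      exact Ideal.height_le_ringKrullDim_of_ne_top (Ideal.IsPrime.ne_top inferInstance)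
    rw [← ringKrullDim_eq_of_ringEquiv e] at h1
    have key : ∀ (Q : Ideal S) [Q.IsPrime], Q = M →
        ringKrullDim (Localization.AtPrime Q ⧸ I.map (algebraMap S (Localization.AtPrime Q))) ≤ 1 →
        ringKrullDim (R ⧸ I.map (algebraMap S R)) ≤ 1 := by
      intro Q _ hQ h
      subst hQ
      exact h
    exact key _ hPM h1
  have hreg : IsWeaklyRegular R (List.ofFn F) := by
    refine CotT.isWeaklyRegular_of_dim _ (by rw [hI']; exact hne) ?_
    rw [List.length_ofFn, hI']
    refine le_antisymm ?_ ?_
    · refine (add_le_add le_rfl hup).trans ?_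
      rw [hR]
      exact le_of_eq (by push_cast; rfl)
    · refine hlow.trans ?_
      rw [add_comm]
      exact add_le_add (by exact_mod_cast hspan) le_rfl
  have hmap : Ideal.span (F '' {i | i < j}) = (part f j).map (algebraMap S R) := by
    rw [part, Ideal.map_span, ← Set.image_comp]
    rfl
  have hloc := (SyntLib.isWeaklyRegular_ofFn_iff F).mp hreg j (algebraMap S R x) (by
    rw [hmap, ← map_mul]
    exact Ideal.mem_map_of_mem _ hx)
  rw [hmap, IsLocalization.algebraMap_mem_map_algebraMap_iff M.primeCompl] at hloc
  obtain ⟨t, ht, htx⟩ := hloc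
  have hhom := part_isHomogeneous f d hf j
  have hne0 : constantCoeff t ≠ 0 := fun h => ht (HomogIdeal.mem_mIdeal_iff.mpr h)
  -- lowest degree induction
  suffices h : ∀ i, homogeneousComponent i x ∈ part f j by
    rw [← sum_homogeneousComponent x]
    exact sum_mem fun i _ => h i
  intro i
  induction i using Nat.strong_induction_on with
  | _ i ih =>
    have h1 := HomogIdeal.component_mem hhom htx i
    have h2 : homogeneousComponent i (t * x) =
        ∑ l ∈ Finset.range (i + 1), homogeneousComponent (i - l) t * homogeneousComponent l x := by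
      conv_lhs => rw [← sum_homogeneousComponent x, Finset.mul_sum, map_sum]
      have hterm : ∀ l, homogeneousComponent i (t * homogeneousComponent l x) =
          if l ≤ i then homogeneousComponent (i - l) t * homogeneousComponent l x else 0 := by
        intro l
        rw [mul_comm t]
        split
        next hl =>
          conv_lhs => rw [show i = l + (i - l) by omega]
          rw [component_mul (homogeneousComponent_isHomogeneous l x), mul_comm]
        next hl =>
          conv_lhs => rw [← sum_homogeneousComponent t, Finset.mul_sum, map_sum]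
          refine Finset.sum_eq_zero fun m _ => ?_
          rw [homogeneousComponent_of_mem ((homogeneousComponent_isHomogeneous l x).mul
            (homogeneousComponent_isHomogeneous m t)), if_neg (by omega)]
      simp only [hterm]
      rw [← Finset.sum_filter]
      refine Finset.sum_subset (fun l hl => ?_) (fun l hl hl' => ?_)
      · simp only [Finset.mem_filter, Finset.mem_range] at hl ⊢; omega
      · simp only [Finset.mem_filter, Finset.mem_range] at hl hl'
        rw [homogeneousComponent_eq_zero l x (by omega), mul_zero]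
    rw [h2, Finset.sum_range_succ, Nat.sub_self, homogeneousComponent_zero] at h1
    have h3 : C (constantCoeff t) * homogeneousComponent i x ∈ part f j := by
      rw [constantCoeff_eq]
      have h4 : ∑ l ∈ Finset.range i, homogeneousComponent (i - l) t * homogeneousComponent l x ∈ part f j :=
        sum_mem fun l hl => Ideal.mul_mem_left _ _ (ih l (Finset.mem_range.mp hl))
      simpa using (part f j).sub_mem h1 h4
    have h5 := (part f j).mul_mem_left (C (constantCoeff t)⁻¹) h3
    rwa [← mul_assoc, ← map_mul, inv_mul_cancel₀ hne0, map_one, one_mul] at h5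

/-- The codimension of the degree `m` part of an ideal. -/
noncomputable def hfun (J : Ideal (MvPolynomial (Fin (n + 1)) k)) (m : ℕ) : ℤ :=
  (Module.finrank k (homogeneousSubmodule (Fin (n + 1)) k m) : ℤ) -
    Module.finrank k ↥(J.restrictScalars k ⊓ homogeneousSubmodule (Fin (n + 1)) k m)

theorem finite_homogeneous (m : ℕ) : Module.Finite k (homogeneousSubmodule (Fin (n + 1)) k m) := by
  rw [homogeneousSubmodule_eq_finsupp_supported]
  have : Finite ↥{d : Fin (n + 1) →₀ ℕ | d.degree = m} := Set.Finite.to_subtype
    ((Finset.finsuppAntidiag Finset.univ m).finite_toSet.subset fun d hd => by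
      rw [Finset.mem_coe, Finset.mem_finsuppAntidiag]
      refine ⟨?_, Finset.subset_univ _⟩
      rw [← hd, Finsupp.degree]
      exact (Finset.sum_subset (Finset.subset_univ _) fun i _ hi => Finsupp.notMem_support_iff.mp hi).symm)
  exact Module.Finite.of_basis (MvPolynomial.basisRestrictSupport k _)

theorem finrank_homogeneous (m : ℕ) :
    Module.finrank k (homogeneousSubmodule (Fin (n + 1)) k m) = (n + m).choose n := by
  rw [homogeneousSubmodule_eq_finsupp_supported]
  have hset : {d : Fin (n + 1) →₀ ℕ | d.degree = m} = ↑(Finset.finsuppAntidiag Finset.univ m : Finset (Fin (n + 1) →₀ ℕ)) := by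
    ext d
    rw [Finset.mem_coe, Finset.mem_finsuppAntidiag, Set.mem_ofPred_eq, Finsupp.degree]
    refine ⟨fun h => ⟨?_, Finset.subset_univ _⟩, fun h => ?_⟩
    · rw [← h]
      exact (Finset.sum_subset (Finset.subset_univ _) fun i _ hi => Finsupp.notMem_support_iff.mp hi).symm
    · rw [← h.1]
      exact Finset.sum_subset (Finset.subset_univ _) fun i _ hi => Finsupp.notMem_support_iff.mp hi
  change Module.finrank k (MvPolynomial.restrictSupport k {d : Fin (n + 1) →₀ ℕ | d.degree = m}) = _
  rw [Module.finrank_eq_nat_card_basis (MvPolynomial.basisRestrictSupport k _), hset, SetLike.coe_sort_coe,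
    Nat.card_eq_fintype_card, Fintype.card_coe, Finset.card_finsuppAntidiag_nat_eq_choose, Finset.card_univ,
    Fintype.card_fin, show n + 1 + m - 1 = n + m by omega, Nat.choose_symm_add]

theorem hfun_step (f : Fin c → S) (d : Fin c → ℕ) (hf : ∀ i, (f i).IsHomogeneous (d i)) (j : Fin c)
    (hreg : ∀ x, f j * x ∈ part f j → x ∈ part f j) (m : ℕ) :
    hfun (part f (j + 1)) (m + d j) = hfun (part f j) (m + d j) - hfun (part f j) m := by
  classical
  let H := homogeneousSubmodule (Fin (n + 1)) k
  let N := fun (i m : ℕ) => (part f i).restrictScalars k ⊓ H m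
  haveI := finite_homogeneous (k := k) (n := n) m
  haveI := finite_homogeneous (k := k) (n := n) (m + d j)
  have hle : part f j ≤ part f (j + 1) := Ideal.span_mono (Set.image_mono fun i hi => Nat.lt_succ_of_lt hi)
  have hfj : f j ∈ part f (j + 1) := Ideal.subset_span ⟨j, Nat.lt_succ_self _, rfl⟩
  haveI : Module.Finite k (N j (m + d j)) := Module.Finite.of_injective (Submodule.inclusion inf_le_right) (Submodule.inclusion_injective _)
  haveI : Module.Finite k (N j m) := Module.Finite.of_injective (Submodule.inclusion inf_le_right) (Submodule.inclusion_injective _)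
  have hmem : ∀ (a : N j (m + d j)) (g : H m), (a : S) + f j * g ∈ N (j + 1) (m + d j) := fun a g =>
    ⟨add_mem (hle a.2.1) (Ideal.mul_mem_right _ _ hfj), add_mem a.2.2
      (show (f j * g : S) ∈ H (m + d j) by rw [add_comm m]; exact (hf j).mul g.2)⟩
  let φ : (N j (m + d j) × H m) →ₗ[k] N (j + 1) (m + d j) :=
    { toFun := fun p => ⟨(p.1 : S) + f j * p.2, hmem p.1 p.2⟩
      map_add' := fun p q => Subtype.ext (by
        change ((p.1 : S) + q.1) + f j * ((p.2 : S) + q.2) = ((p.1 : S) + f j * p.2) + ((q.1 : S) + f j * q.2)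
        ring)
      map_smul' := fun a p => Subtype.ext (by
        change a • (p.1 : S) + f j * (a • (p.2 : S)) = a • ((p.1 : S) + f j * p.2)
        rw [smul_add, Algebra.mul_smul_comm]) }
  have hsurj : Function.Surjective φ := by
    rintro ⟨y, hy, hyH⟩
    have hy' : y ∈ part f j ⊔ Ideal.span {f j} := by
      refine (Ideal.span_le.mpr ?_) hy
      rintro _ ⟨i, hi, rfl⟩
      rcases Nat.lt_succ_iff_lt_or_eq.mp hi with h | h
      · exact Submodule.mem_sup_left (Ideal.subset_span ⟨i, h, rfl⟩)
      · rw [Fin.ext h]
        exact Submodule.mem_sup_right (Ideal.mem_span_singleton_self _)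
    obtain ⟨a, ha, b, hb, rfl⟩ := Submodule.mem_sup.mp hy'
    obtain ⟨g, rfl⟩ := Ideal.mem_span_singleton'.mp hb
    refine ⟨(⟨homogeneousComponent (m + d j) a, HomogIdeal.component_mem (part_isHomogeneous f d hf j) ha _,
      (mem_homogeneousSubmodule _ _).mpr (homogeneousComponent_isHomogeneous _ _)⟩,
      ⟨homogeneousComponent m g, (mem_homogeneousSubmodule _ _).mpr (homogeneousComponent_isHomogeneous _ _)⟩),
      Subtype.ext ?_⟩
    change homogeneousComponent (m + d j) a + f j * homogeneousComponent m g = a + g * f j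
    conv_rhs => rw [← if_pos (rfl : m + d j = m + d j) (α := S) (t := a + g * f j) (e := 0),
      ← homogeneousComponent_of_mem hyH]
    rw [map_add, mul_comm g, show m + d j = d j + m by ring, component_mul (hf j)]
  let ψ : N j m →ₗ[k] (N j (m + d j) × H m) :=
    { toFun := fun g => (⟨-(f j * (g : S)), neg_mem (Ideal.mul_mem_left _ _ g.2.1), neg_mem
        (show (f j * g : S) ∈ H (m + d j) by rw [add_comm m]; exact (hf j).mul g.2.2)⟩, ⟨g, g.2.2⟩)
      map_add' := fun g g' => Prod.ext (Subtype.ext (by
        change -(f j * ((g : S) + g')) = -(f j * (g : S)) + -(f j * (g' : S)); ring)) rfl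
      map_smul' := fun a g => Prod.ext (Subtype.ext (by
        change -(f j * (a • (g : S))) = a • -(f j * (g : S)); rw [Algebra.mul_smul_comm, smul_neg])) rfl }
  have hker : LinearMap.ker φ = LinearMap.range ψ := by
    ext ⟨a, g⟩
    constructor
    · intro h
      have h' : (a : S) + f j * g = 0 := congrArg Subtype.val h
      have ha : (a : S) = -(f j * g) := eq_neg_of_add_eq_zero_left h'
      refine ⟨⟨g, hreg g ?_, g.2⟩, Prod.ext (Subtype.ext ha.symm) rfl⟩
      have := neg_mem a.2.1
      rwa [ha, neg_neg] at this
    · rintro ⟨b, hb⟩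
      rw [← hb]
      exact Subtype.ext (neg_add_cancel _)
  have hψ : Function.Injective ψ := fun g g' h => by
    have := congrArg (fun p : N j (m + d j) × H m => (p.2 : S)) h
    exact Subtype.ext this
  have h1 := LinearMap.finrank_range_add_finrank_ker φ
  rw [LinearMap.range_eq_top.mpr hsurj, finrank_top, hker, LinearMap.finrank_range_of_inj hψ,
    Module.finrank_prod] at h1
  change _ - (Module.finrank k (N (j + 1) (m + d j)) : ℤ) =
    _ - (Module.finrank k (N j (m + d j)) : ℤ) - (_ - (Module.finrank k (N j m) : ℤ))
  have h2 : (Module.finrank k (N (j + 1) (m + d j)) : ℤ) + Module.finrank k (N j m) =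
      Module.finrank k (N j (m + d j)) + Module.finrank k (H m) := by exact_mod_cast h1
  linarith

theorem choose_sub_choose (r d a : ℕ) :
    ((a + d + (r + 1)).choose (r + 1) : ℤ) - (a + (r + 1)).choose (r + 1) =
      ∑ i ∈ Finset.range d, ((a + d - i + r).choose r : ℤ) := by
  induction d with
  | zero => simp
  | succ d ih =>
    rw [Finset.sum_range_succ', show a + (d + 1) + (r + 1) = (a + d + (r + 1)) + 1 by ring, Nat.choose_succ_succ]
    have h : ∀ i, a + (d + 1) - (i + 1) + r = a + d - i + r := fun i => by omega
    simp only [h, ← ih, Nat.sub_zero]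
    rw [show a + d + (r + 1) = a + (d + 1) + r by ring]
    push_cast
    ring

theorem eventually_prod (f : Fin n → S) (d : Fin n → ℕ) (hd : ∀ i, 1 ≤ d i) (hf : ∀ i, (f i).IsHomogeneous (d i))
    (hdim : ringKrullDim (S ⧸ Ideal.span (Set.range f)) = 1) :
    ∃ m₀ : ℕ, ∀ m ≥ m₀, hfun (part f n) m = ∏ i, (d i : ℤ) := by
  classical
  suffices h : ∀ j, (hj : j ≤ n) → ∃ (T : Multiset ℕ) (m₀ : ℕ),
      (T.card : ℤ) = (∏ i : Fin j, (d (Fin.castLE hj i) : ℤ)) ∧ (∀ s ∈ T, s ≤ m₀) ∧
      ∀ m ≥ m₀, hfun (part f j) m = (T.map fun s => ((m - s + (n - j)).choose (n - j) : ℤ)).sum by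
    obtain ⟨T, m₀, hT, -, hm⟩ := h n le_rfl
    refine ⟨m₀, fun m hmm => ?_⟩
    rw [hm m hmm]
    simp only [Nat.sub_self, Nat.choose_zero_right, Nat.cast_one, Multiset.map_const', Multiset.sum_replicate,
      nsmul_eq_mul, mul_one]
    rw [hT]
    exact Finset.prod_congr rfl fun i _ => rfl
  intro j hj
  induction j with
  | zero =>
    refine ⟨{0}, 0, by simp, by simp, fun m _ => ?_⟩
    simp only [Multiset.map_singleton, Multiset.sum_singleton, Nat.sub_zero]
    have : part f 0 = ⊥ := by simp [part]
    rw [hfun, this, finrank_homogeneous, Submodule.restrictScalars_bot, bot_inf_eq, finrank_bot]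
    simp [add_comm]
  | succ j ih =>
    obtain ⟨T, m₀, hT, hle, hm⟩ := ih (by omega)
    let jj : Fin n := ⟨j, by omega⟩
    refine ⟨T.bind fun s => (Multiset.range (d jj)).map fun i => s + i, m₀ + d jj, ?_, ?_, fun m hmm => ?_⟩
    · rw [Fin.prod_univ_castSucc]
      simp only [Multiset.card_bind, Function.comp_def, Multiset.card_map, Multiset.card_range,
        Multiset.map_const', Multiset.sum_replicate, smul_eq_mul, Nat.cast_mul]
      rw [hT]
      congr 1
    · intro s hs
      simp only [Multiset.mem_bind, Multiset.mem_map, Multiset.mem_range] at hs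
      obtain ⟨t, ht, i, hi, rfl⟩ := hs
      have := hle t ht
      omega
    · obtain ⟨a, rfl⟩ : ∃ a, m = a + d jj := ⟨m - d jj, by omega⟩
      have h := hfun_step f d hf jj (mem_of_mul_mem f d hd hf hdim jj) a
      rw [show ((jj : ℕ) + 1) = j + 1 from rfl, show ((jj : ℕ)) = j from rfl] at h
      rw [h, hm _ (by omega), hm _ (by omega), ← Multiset.sum_map_sub, Multiset.map_bind, Multiset.sum_bind]
      refine congrArg Multiset.sum (Multiset.map_congr rfl fun s hs => ?_)
      have hs' := hle s hs
      rw [Multiset.map_map]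
      obtain ⟨r, hr⟩ : ∃ r, n - j = r + 1 := ⟨n - j - 1, by omega⟩
      have hr' : n - (j + 1) = r := by omega
      rw [hr, show a + d jj - s = (a - s) + d jj by omega, choose_sub_choose]
      simp only [Function.comp_def]
      change (Finset.range (d jj)).sum _ = _
      rw [Finset.sum_eq_multiset_sum, Finset.range_val]
      refine congrArg Multiset.sum (Multiset.map_congr rfl fun i hi => ?_)
      rw [Multiset.mem_range] at hi
      rw [hr', show a + d jj - (s + i) + r = a - s + d jj - i + r by omega]

end Groth.Agent.CIHilb
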