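import Mathlib
import Groth.Agent.CIHilb.Basic

/-!
# Hilbert polynomial of a section by a form which is a non zero divisor
-/

set_option autoImplicit false
set_option linter.style.haveILetI false

universe u

namespace Groth.Agent.CIHilb

open MvPolynomial

variable {k : Type u} [Field k] {n : ℕ}

local notation "S" => MvPolynomial (Fin (n + 1)) k

/-- The exact sequence of a section by a non zero divisor, in degree `m + d`. -/
theorem hfun_section (J : Ideal S) (hJ : J.IsHomogeneous (CohB1.polyGrading n k)) {g : S} {d : ℕ}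
    (hg : g.IsHomogeneous d) (hreg : ∀ x, g * x ∈ J → x ∈ J) (m : ℕ) :
    hfun (J ⊔ Ideal.span {g}) (m + d) = hfun J (m + d) - hfun J m := by
  classical
  let H := homogeneousSubmodule (Fin (n + 1)) k
  let J' := J ⊔ Ideal.span {g}
  let N := fun (m : ℕ) => J.restrictScalars k ⊓ H m
  let N' := fun (m : ℕ) => J'.restrictScalars k ⊓ H m
  haveI := finite_homogeneous (k := k) (n := n) m
  haveI := finite_homogeneous (k := k) (n := n) (m + d)
  have hgJ' : g ∈ J' := Submodule.mem_sup_right (Ideal.mem_span_singleton_self _)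
  haveI : Module.Finite k (N (m + d)) := Module.Finite.of_injective (Submodule.inclusion inf_le_right) (Submodule.inclusion_injective _)
  haveI : Module.Finite k (N m) := Module.Finite.of_injective (Submodule.inclusion inf_le_right) (Submodule.inclusion_injective _)
  have hmem : ∀ (a : N (m + d)) (x : H m), (a : S) + g * x ∈ N' (m + d) := fun a x =>
    ⟨add_mem (Submodule.mem_sup_left a.2.1) (Ideal.mul_mem_right _ _ hgJ'), add_mem a.2.2
      (show (g * x : S) ∈ H (m + d) by rw [add_comm m]; exact hg.mul x.2)⟩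
  let φ : (N (m + d) × H m) →ₗ[k] N' (m + d) :=
    { toFun := fun p => ⟨(p.1 : S) + g * p.2, hmem p.1 p.2⟩
      map_add' := fun p q => Subtype.ext (by
        change ((p.1 : S) + q.1) + g * ((p.2 : S) + q.2) = ((p.1 : S) + g * p.2) + ((q.1 : S) + g * q.2)
        ring)
      map_smul' := fun a p => Subtype.ext (by
        change a • (p.1 : S) + g * (a • (p.2 : S)) = a • ((p.1 : S) + g * p.2)
        rw [smul_add, Algebra.mul_smul_comm]) }
  have hsurj : Function.Surjective φ := by
    rintro ⟨y, hy, hyH⟩
    obtain ⟨a, ha, b, hb, rfl⟩ := Submodule.mem_sup.mp hy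
    obtain ⟨x, rfl⟩ := Ideal.mem_span_singleton'.mp hb
    refine ⟨(⟨homogeneousComponent (m + d) a, HomogIdeal.component_mem hJ ha _,
      (mem_homogeneousSubmodule _ _).mpr (homogeneousComponent_isHomogeneous _ _)⟩,
      ⟨homogeneousComponent m x, (mem_homogeneousSubmodule _ _).mpr (homogeneousComponent_isHomogeneous _ _)⟩),
      Subtype.ext ?_⟩
    change homogeneousComponent (m + d) a + g * homogeneousComponent m x = a + x * g
    conv_rhs => rw [← if_pos (rfl : m + d = m + d) (α := S) (t := a + x * g) (e := 0),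
      ← homogeneousComponent_of_mem hyH]
    rw [map_add, mul_comm x, show m + d = d + m by ring, component_mul hg]
  let ψ : N m →ₗ[k] (N (m + d) × H m) :=
    { toFun := fun x => (⟨-(g * (x : S)), neg_mem (Ideal.mul_mem_left _ _ x.2.1), neg_mem
        (show (g * x : S) ∈ H (m + d) by rw [add_comm m]; exact hg.mul x.2.2)⟩, ⟨x, x.2.2⟩)
      map_add' := fun x y => Prod.ext (Subtype.ext (by
        change -(g * ((x : S) + y)) = -(g * (x : S)) + -(g * (y : S)); ring)) rfl
      map_smul' := fun a x => Prod.ext (Subtype.ext (by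
        change -(g * (a • (x : S))) = a • -(g * (x : S)); rw [Algebra.mul_smul_comm, smul_neg])) rfl }
  have hker : LinearMap.ker φ = LinearMap.range ψ := by
    ext ⟨a, x⟩
    constructor
    · intro h
      have h' : (a : S) + g * x = 0 := congrArg Subtype.val h
      have ha : (a : S) = -(g * x) := eq_neg_of_add_eq_zero_left h'
      refine ⟨⟨x, hreg x ?_, x.2⟩, Prod.ext (Subtype.ext ha.symm) rfl⟩
      have := neg_mem a.2.1
      rwa [ha, neg_neg] at this
    · rintro ⟨b, hb⟩
      rw [← hb]
      exact Subtype.ext (neg_add_cancel _)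
  have hψ : Function.Injective ψ := fun x y h => by
    have := congrArg (fun p : N (m + d) × H m => (p.2 : S)) h
    exact Subtype.ext this
  have h1 := LinearMap.finrank_range_add_finrank_ker φ
  rw [LinearMap.range_eq_top.mpr hsurj, finrank_top, hker, LinearMap.finrank_range_of_inj hψ,
    Module.finrank_prod] at h1
  change _ - (Module.finrank k (N' (m + d)) : ℤ) =
    _ - (Module.finrank k (N (m + d)) : ℤ) - (_ - (Module.finrank k (N m) : ℤ))
  have h2 : (Module.finrank k (N' (m + d)) : ℤ) + Module.finrank k (N m) =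
      Module.finrank k (N (m + d)) + Module.finrank k (H m) := by exact_mod_cast h1
  linarith

/-- Leading term of a backward difference. -/
theorem natDegree_sub_comp {P : Polynomial ℚ} (hdim : 1 ≤ P.natDegree) (c : ℚ) (hc : c ≠ 0) :
    (P - P.comp (Polynomial.X - Polynomial.C c)).natDegree + 1 = P.natDegree ∧
      (P - P.comp (Polynomial.X - Polynomial.C c)).leadingCoeff = c * P.natDegree * P.leadingCoeff := by
  obtain ⟨t, ht⟩ : ∃ t, P.natDegree = t + 1 := ⟨P.natDegree - 1, by omega⟩
  have hcomp : P.comp (Polynomial.X - Polynomial.C c) = Polynomial.taylor (-c) P := by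
    rw [Polynomial.taylor_apply, map_neg, sub_eq_add_neg]
  let D := P - Polynomial.taylor (-c) P
  have hcoef : ∀ i, D.coeff i = P.coeff i - (Polynomial.hasseDeriv i P).eval (-c) := fun i => by
    rw [Polynomial.coeff_sub, Polynomial.taylor_coeff]
  have hle : D.natDegree ≤ t := by
    refine Polynomial.natDegree_le_iff_coeff_eq_zero.mpr fun i hi => ?_
    rw [hcoef]
    rcases eq_or_lt_of_le (Nat.succ_le_of_lt hi) with h | h
    · rw [Polynomial.eval_eq_sum_range' (n := 1) ((Polynomial.natDegree_hasseDeriv_le P i).trans_lt (by omega))]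
      simp [Polynomial.hasseDeriv_coeff]
    · rw [Polynomial.coeff_eq_zero_of_natDegree_lt (by omega),
        Polynomial.hasseDeriv_eq_zero_of_lt_natDegree P i (by omega), Polynomial.eval_zero, sub_zero]
  have htop : D.coeff t = c * P.natDegree * P.leadingCoeff := by
    rw [hcoef, Polynomial.eval_eq_sum_range' (n := 2) ((Polynomial.natDegree_hasseDeriv_le P t).trans_lt (by omega)),
      Polynomial.leadingCoeff, ht, Finset.sum_range_succ, Finset.sum_range_one]
    simp only [Polynomial.hasseDeriv_coeff, pow_zero, pow_one, zero_add, Nat.choose_self, Nat.cast_one, one_mul, mul_one]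
    rw [show 1 + t = t + 1 by ring, Nat.choose_succ_self_right]
    ring
  have hne : D.coeff t ≠ 0 := by
    rw [htop]
    exact mul_ne_zero (mul_ne_zero hc (by exact_mod_cast (by omega : P.natDegree ≠ 0)))
      (Polynomial.leadingCoeff_ne_zero.mpr fun h => by rw [h, Polynomial.natDegree_zero] at hdim; omega)
  have hdeg : D.natDegree = t := le_antisymm hle (Polynomial.le_natDegree_of_ne_zero hne)
  rw [hcomp]
  refine ⟨by change D.natDegree + 1 = _; omega, ?_⟩
  change D.coeff D.natDegree = _
  rw [hdeg, htop]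

theorem section_degree (I : Ideal S) (hIh : I.IsHomogeneous (CohB1.polyGrading n k)) [I.IsPrime]
    (f : S) (d : ℕ) (hd : 0 < d) (hf : f.IsHomogeneous d) (hfI : f ∉ I) (P Q : Polynomial ℚ)
    (hP : ∃ m₀ : ℕ, ∀ m : ℕ, m₀ ≤ m → P.eval (m : ℚ) = (hfun I m : ℚ))
    (hQ : ∃ m₀ : ℕ, ∀ m : ℕ, m₀ ≤ m → Q.eval (m : ℚ) = (hfun (I ⊔ Ideal.span {f}) m : ℚ))
    (hdim : 1 ≤ P.natDegree) :
    Q.natDegree + 1 = P.natDegree ∧
      (Q.natDegree.factorial : ℚ) * Q.leadingCoeff = d * ((P.natDegree.factorial : ℚ) * P.leadingCoeff) := by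
  obtain ⟨a, ha⟩ := hP
  obtain ⟨b, hb⟩ := hQ
  have hQP : Q = P - P.comp (Polynomial.X - Polynomial.C (d : ℚ)) := by
    refine Polynomial.eq_of_infinite_eval_eq _ _ (Set.Infinite.mono ?_
      ((Set.Ici_infinite (a + b + d)).image (Nat.cast_injective (R := ℚ)).injOn))
    rintro _ ⟨m, hm, rfl⟩
    rw [Set.mem_Ici] at hm
    rw [Set.mem_ofPred_eq, hb m (by omega), Polynomial.eval_sub, Polynomial.eval_comp, Polynomial.eval_sub,
      Polynomial.eval_X, Polynomial.eval_C, ← Nat.cast_sub (by omega), ha m (by omega), ha (m - d) (by omega)]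
    conv_lhs => rw [show m = m - d + d by omega, hfun_section I hIh hf
      (fun x hx => ((inferInstance : I.IsPrime).mem_or_mem hx).resolve_left hfI)]
    rw [show m - d + d = m by omega]
    push_cast
    ring
  obtain ⟨h1, h2⟩ := natDegree_sub_comp hdim (d : ℚ) (Nat.cast_ne_zero.mpr hd.ne')
  rw [← hQP] at h1 h2
  refine ⟨h1, ?_⟩
  rw [h2, ← h1, Nat.factorial_succ]
  push_cast
  ring

end Groth.Agent.CIHilb
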