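import Mathlib
import Groth.Agent.CIHilb.Section
import Groth.Agent.HilbSam.EvPoly
import Groth.Agent.DimFormula.Field

/-!
# Degree of the Hilbert polynomial of a homogeneous ideal

Dévissage by homogeneous ideals: the Hilbert polynomial exists, its degree is the dimension of the
projective scheme and its top coefficient is additive over the components of top dimension.
-/

set_option autoImplicit false
set_option linter.style.haveILetI false

universe u

namespace Groth.Agent.CIHilb

open MvPolynomial Filter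

variable {k : Type u} [Field k] {n : ℕ}

local notation "S" => MvPolynomial (Fin (n + 1)) k

/-- The elements sent into `J` by multiplication with `a`. -/
noncomputable def colonI (J : Ideal (MvPolynomial (Fin (n + 1)) k)) (a : MvPolynomial (Fin (n + 1)) k) :
    Ideal (MvPolynomial (Fin (n + 1)) k) :=
  Submodule.comap (LinearMap.mulLeft (MvPolynomial (Fin (n + 1)) k) a) J

theorem mem_colonI {J : Ideal S} {a x : S} : x ∈ colonI J a ↔ a * x ∈ J := Iff.rfl

theorem isHomogeneous_of_component {J : Ideal S} (h : ∀ x ∈ J, ∀ i, homogeneousComponent i x ∈ J) :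
    J.IsHomogeneous (CohB1.polyGrading n k) := by
  intro i x hx
  rw [← DirectSum.Decomposition.decompose'_eq]
  erw [decomposition.decompose'_apply]
  exact h x hx i

theorem colonI_isHomogeneous {J : Ideal S} (hJ : J.IsHomogeneous (CohB1.polyGrading n k)) {a : S} {e : ℕ}
    (ha : a.IsHomogeneous e) : (colonI J a).IsHomogeneous (CohB1.polyGrading n k) :=
  isHomogeneous_of_component fun x hx i => by
    rw [mem_colonI, ← component_mul ha]
    exact HomogIdeal.component_mem hJ hx _

theorem sup_isHomogeneous {J : Ideal S} (hJ : J.IsHomogeneous (CohB1.polyGrading n k)) {a : S} {e : ℕ}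
    (ha : a.IsHomogeneous e) : (J ⊔ Ideal.span {a}).IsHomogeneous (CohB1.polyGrading n k) :=
  hJ.sup (Ideal.homogeneous_span _ _ (by
    rintro _ rfl
    exact ⟨e, (mem_homogeneousSubmodule e _).mpr ha⟩))

/-- The exact sequence of multiplication by a form, in degree `m + e`. -/
theorem hfun_colon (J : Ideal S) (hJ : J.IsHomogeneous (CohB1.polyGrading n k)) {g : S} {d : ℕ}
    (hg : g.IsHomogeneous d) (m : ℕ) :
    hfun J (m + d) = hfun (J ⊔ Ideal.span {g}) (m + d) + hfun (colonI J g) m := by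
  classical
  let H := homogeneousSubmodule (Fin (n + 1)) k
  let J' := J ⊔ Ideal.span {g}
  let N := fun (m : ℕ) => J.restrictScalars k ⊓ H m
  let N' := fun (m : ℕ) => J'.restrictScalars k ⊓ H m
  let C' := (colonI J g).restrictScalars k ⊓ H m
  haveI := finite_homogeneous (k := k) (n := n) m
  haveI := finite_homogeneous (k := k) (n := n) (m + d)
  have hgJ' : g ∈ J' := Submodule.mem_sup_right (Ideal.mem_span_singleton_self _)
  haveI : Module.Finite k (N (m + d)) := Module.Finite.of_injective (Submodule.inclusion inf_le_right) (Submodule.inclusion_injective _)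
  haveI : Module.Finite k C' := Module.Finite.of_injective (Submodule.inclusion inf_le_right) (Submodule.inclusion_injective _)
  have hmem : ∀ (a : N (m + d)) (x : H m), (a : S) + g * x ∈ N' (m + d) := fun a x =>
    ⟨add_mem (Submodule.mem_sup_left a.2.1) (Ideal.mul_mem_right _ _ hgJ'), add_mem a.2.2
      (show (g * x : S) ∈ H (m + d) by rw [add_comm m]; exact hg.mul x.2)⟩
  let φ : (N (m + d) × H m) →ₗ[k] N' (m + d) :=
    { toFun := fun p => ⟨(p.1 : S) + g * p.2, hmem p.1 p.2⟩
      map_add' := fun p q => Subtype.ext (by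
        change ((p.1 : S) + q.1) + g * ((p.2 : S) + q.2) = ((p.1 : S) + g * p.2) + ((q.1 : S) + g * q.2)
        ring)
      map_smul' := fun a p => Subtype.ext (by
        change a • (p.1 : S) + g * (a • (p.2 : S)) = a • ((p.1 : S) + g * p.2)
        rw [smul_add, Algebra.mul_smul_comm]) }
  have hsurj : Function.Surjective φ := by
    rintro ⟨y, hy, hyH⟩
    obtain ⟨a, ha, b, hb, rfl⟩ := Submodule.mem_sup.mp hy
    obtain ⟨x, rfl⟩ := Ideal.mem_span_singleton'.mp hb
    refine ⟨(⟨homogeneousComponent (m + d) a, HomogIdeal.component_mem hJ ha _,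
      (mem_homogeneousSubmodule _ _).mpr (homogeneousComponent_isHomogeneous _ _)⟩,
      ⟨homogeneousComponent m x, (mem_homogeneousSubmodule _ _).mpr (homogeneousComponent_isHomogeneous _ _)⟩),
      Subtype.ext ?_⟩
    change homogeneousComponent (m + d) a + g * homogeneousComponent m x = a + x * g
    conv_rhs => rw [← if_pos (rfl : m + d = m + d) (α := S) (t := a + x * g) (e := 0),
      ← homogeneousComponent_of_mem hyH]
    rw [map_add, mul_comm x, show m + d = d + m by ring, component_mul hg]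
  let ψ : C' →ₗ[k] (N (m + d) × H m) :=
    { toFun := fun x => (⟨-(g * (x : S)), neg_mem (mem_colonI.mp x.2.1), neg_mem
        (show (g * x : S) ∈ H (m + d) by rw [add_comm m]; exact hg.mul x.2.2)⟩, ⟨x, x.2.2⟩)
      map_add' := fun x y => Prod.ext (Subtype.ext (by
        change -(g * ((x : S) + y)) = -(g * (x : S)) + -(g * (y : S)); ring)) rfl
      map_smul' := fun a x => Prod.ext (Subtype.ext (by
        change -(g * (a • (x : S))) = a • -(g * (x : S)); rw [Algebra.mul_smul_comm, smul_neg])) rfl }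
  have hker : LinearMap.ker φ = LinearMap.range ψ := by
    ext ⟨a, x⟩
    constructor
    · intro h
      have h' : (a : S) + g * x = 0 := congrArg Subtype.val h
      have ha : (a : S) = -(g * x) := eq_neg_of_add_eq_zero_left h'
      refine ⟨⟨x, mem_colonI.mpr ?_, x.2⟩, Prod.ext (Subtype.ext ha.symm) rfl⟩
      have := neg_mem a.2.1
      rwa [ha, neg_neg] at this
    · rintro ⟨b, hb⟩
      rw [← hb]
      exact Subtype.ext (neg_add_cancel _)
  have hψ : Function.Injective ψ := fun x y h => by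
    have := congrArg (fun p : N (m + d) × H m => (p.2 : S)) h
    exact Subtype.ext this
  have h1 := LinearMap.finrank_range_add_finrank_ker φ
  rw [LinearMap.range_eq_top.mpr hsurj, finrank_top, hker, LinearMap.finrank_range_of_inj hψ,
    Module.finrank_prod] at h1
  change _ - (Module.finrank k (N (m + d)) : ℤ) =
    _ - (Module.finrank k (N' (m + d)) : ℤ) + (_ - (Module.finrank k C' : ℤ))
  have h2 : (Module.finrank k (N' (m + d)) : ℤ) + Module.finrank k C' =
      Module.finrank k (N (m + d)) + Module.finrank k (H m) := by exact_mod_cast h1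
  linarith

theorem hfun_eq_zero {J : Ideal S} {m : ℕ} (h : homogeneousSubmodule (Fin (n + 1)) k m ≤ J.restrictScalars k) :
    hfun J m = 0 := by
  rw [hfun, inf_eq_right.mpr h, sub_self]

theorem one_le_hfun {J : Ideal S} {m : ℕ} {x : S} (hx : x.IsHomogeneous m) (hxJ : x ∉ J) : 1 ≤ hfun J m := by
  haveI := finite_homogeneous (k := k) (n := n) m
  have h := Submodule.finrank_lt_finrank_of_lt (K := k) (V := S)
    (s := J.restrictScalars k ⊓ homogeneousSubmodule (Fin (n + 1)) k m) (t := homogeneousSubmodule (Fin (n + 1)) k m)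
    (lt_of_le_of_ne inf_le_right fun h => hxJ ((inf_eq_right.mp h) hx))
  rw [hfun]
  omega

theorem exists_dim {J : Ideal S} (hJ : J ≠ ⊤) : ∃ s : ℕ, ringKrullDim (S ⧸ J) = (s : WithBot ℕ∞) := by
  haveI : Nontrivial (S ⧸ J) := Ideal.Quotient.nontrivial_iff.mpr hJ
  have h1 : ringKrullDim (S ⧸ J) ≤ ((n + 1 : ℕ) : WithBot ℕ∞) := by
    refine (ringKrullDim_quotient_le J).trans_eq ?_
    rw [MvPolynomial.ringKrullDim_of_isNoetherianRing, ringKrullDim_eq_zero_of_field, zero_add, Nat.card_fin]
  have h0 := ringKrullDim_nonneg_of_nontrivial (R := S ⧸ J)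
  cases hv : ringKrullDim (S ⧸ J) with
  | bot => rw [hv] at h0; exact absurd h0 (by simp)
  | coe v =>
    rw [hv, ← WithBot.coe_natCast, WithBot.coe_le_coe] at h1
    obtain ⟨s, rfl⟩ := ENat.ne_top_iff_exists.mp (ne_top_of_le_ne_top (ENat.natCast_ne_top _) h1)
    exact ⟨s, rfl⟩

theorem dim_mono {J J' : Ideal S} (h : J ≤ J') : ringKrullDim (S ⧸ J') ≤ ringKrullDim (S ⧸ J) :=
  ringKrullDim_le_of_surjective (Ideal.Quotient.factor h) (Ideal.Quotient.factor_surjective h)

theorem dim_eq_max (J : Ideal S) (a : S) :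
    ringKrullDim (S ⧸ J) = max (ringKrullDim (S ⧸ (J ⊔ Ideal.span {a}))) (ringKrullDim (S ⧸ colonI J a)) := by
  refine le_antisymm ?_ (max_le (dim_mono le_sup_left) (dim_mono fun x hx => mem_colonI.mpr (Ideal.mul_mem_left J a hx)))
  rw [ringKrullDim_quotient, ringKrullDim_quotient, ringKrullDim_quotient, Order.krullDim]
  refine iSup_le fun s => ?_
  have hge : ∀ i, (s.head : PrimeSpectrum S).asIdeal ≤ (s i : PrimeSpectrum S).asIdeal := fun i => s.head_le i
  have key : ∀ J' : Ideal S, J' ≤ (s.head : PrimeSpectrum S).asIdeal →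
      (s.length : WithBot ℕ∞) ≤ Order.krullDim (PrimeSpectrum.zeroLocus (J' : Set S)) := by
    intro J' hJ'
    exact Order.LTSeries.length_le_krullDim ⟨s.length, fun i => ⟨(s i : PrimeSpectrum S), fun x hx => hge i (hJ' hx)⟩,
      fun i => s.step i⟩
  have hJ : J ≤ (s.head : PrimeSpectrum S).asIdeal := s.head.2
  by_cases ha : a ∈ (s.head : PrimeSpectrum S).asIdeal
  · exact (key _ (sup_le hJ ((Ideal.span_singleton_le_iff_mem _).mpr ha))).trans (le_max_left _ _)
  · refine (key _ fun x hx => ?_).trans (le_max_right _ _)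
    exact ((s.head : PrimeSpectrum S).2.mem_or_mem (hJ (mem_colonI.mp hx))).resolve_left ha

theorem dim_section (J : Ideal S) [J.IsPrime] (hJ : J.IsHomogeneous (CohB1.polyGrading n k)) {x : S} {e : ℕ}
    (hx : x.IsHomogeneous e) (hxm : x ∈ HomogIdeal.mIdeal k n) (hxJ : x ∉ J) :
    ringKrullDim (S ⧸ J) = ringKrullDim (S ⧸ (J ⊔ Ideal.span {x})) + 1 := by
  let R := S ⧸ J
  let y : R := Ideal.Quotient.mk J x
  have e1 : (R ⧸ Ideal.span {y}) ≃+* S ⧸ (J ⊔ Ideal.span {x}) :=
    (Ideal.quotEquivOfEq (by rw [Ideal.map_span, Set.image_singleton])).trans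
      (DoubleQuot.quotQuotEquivQuotSup J (Ideal.span {x}))
  rw [show ringKrullDim (S ⧸ (J ⊔ Ideal.span {x})) = ringKrullDim (R ⧸ Ideal.span {y}) from
    (ringKrullDim_eq_of_ringEquiv e1).symm]
  have hy : y ≠ 0 := fun h => hxJ (Ideal.Quotient.eq_zero_iff_mem.mp h)
  refine le_antisymm ?_ (ringKrullDim_quotient_succ_le_of_nonZeroDivisor (mem_nonZeroDivisors_of_ne_zero hy))
  have hJm : J ≤ HomogIdeal.mIdeal k n := HomogIdeal.le_mIdeal hJ (Ideal.IsPrime.ne_top inferInstance)
  let P : Ideal R := (HomogIdeal.mIdeal k n).map (Ideal.Quotient.mk J)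
  haveI : P.IsMaximal := Ideal.IsMaximal.map_of_surjective_of_ker_le Ideal.Quotient.mk_surjective (by rwa [Ideal.mk_ker])
  rw [← GLinFree.height_eq_ringKrullDim (K := k) P]
  refine (height_le_ringKrullDim_quotient_add_spanFinrank (I := Ideal.span {y})
    ((Ideal.span_singleton_le_iff_mem _).mpr (Ideal.mem_map_of_mem _ hxm))).trans ?_
  refine add_le_add le_rfl ?_
  have : (Ideal.span {y}).spanFinrank ≤ 1 :=
    (Submodule.spanFinrank_span_le_ncard_of_finite (Set.finite_singleton y)).trans (Set.ncard_singleton y).le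
  exact_mod_cast this

theorem dim_lt_of_lt {J p : Ideal S} [J.IsPrime] [p.IsPrime] (h : J < p) :
    ringKrullDim (S ⧸ p) < ringKrullDim (S ⧸ J) := by
  obtain ⟨x, hxp, hxJ⟩ := SetLike.exists_of_lt h
  have hy : Ideal.Quotient.mk J x ≠ 0 := fun e => hxJ (Ideal.Quotient.eq_zero_iff_mem.mp e)
  have h1 := ringKrullDim_quotient_succ_le_of_nonZeroDivisor (mem_nonZeroDivisors_of_ne_zero hy)
  let φ : ((S ⧸ J) ⧸ Ideal.span {Ideal.Quotient.mk J x}) →+* S ⧸ p :=
    Ideal.Quotient.lift _ (Ideal.Quotient.factor h.le) fun a ha => by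
      obtain ⟨c, rfl⟩ := Ideal.mem_span_singleton'.mp ha
      rw [map_mul, Ideal.Quotient.factor_mk, Ideal.Quotient.eq_zero_iff_mem.mpr hxp, mul_zero]
  have h2 := (add_le_add (ringKrullDim_le_of_surjective φ
    (Ideal.Quotient.lift_surjective_of_surjective _ _ (Ideal.Quotient.factor_surjective h.le))) le_rfl).trans h1
  obtain ⟨a, ha⟩ := exists_dim (k := k) (n := n) (J := J) (Ideal.IsPrime.ne_top inferInstance)
  obtain ⟨b, hb⟩ := exists_dim (k := k) (n := n) (J := p) (Ideal.IsPrime.ne_top inferInstance)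
  rw [ha, hb] at h2 ⊢
  have : b + 1 ≤ a := by exact_mod_cast h2
  exact_mod_cast (by omega : b < a)

/-- `P` is zero or has positive leading coefficient. -/
def Pos (P : Polynomial ℚ) : Prop := P = 0 ∨ 0 < P.leadingCoeff

theorem pos_add {P Q : Polynomial ℚ} (hP : Pos P) (hQ : Pos Q) :
    Pos (P + Q) ∧ (P + Q = 0 → P = 0 ∧ Q = 0) ∧ (P + Q).natDegree = max P.natDegree Q.natDegree := by
  rcases hP with rfl | hP
  · simp [hQ]
  rcases hQ with rfl | hQ
  · simp [Pos, hP]
  have hP0 : P ≠ 0 := fun h => by simp [h] at hP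
  have hQ0 : Q ≠ 0 := fun h => by simp [h] at hQ
  suffices h : 0 < (P + Q).leadingCoeff ∧ (P + Q).natDegree = max P.natDegree Q.natDegree from
    ⟨Or.inr h.1, fun e => absurd h.1 (by rw [e]; simp), h.2⟩
  rcases lt_trichotomy P.natDegree Q.natDegree with h | h | h
  · rw [Polynomial.natDegree_add_eq_right_of_natDegree_lt h, max_eq_right h.le,
      Polynomial.leadingCoeff_add_of_degree_lt (Polynomial.degree_lt_degree h)]
    exact ⟨hQ, rfl⟩
  · have hne : P.leadingCoeff + Q.leadingCoeff ≠ 0 := (add_pos hP hQ).ne'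
    have hdeg : P.degree = Q.degree := by rw [Polynomial.degree_eq_natDegree hP0, Polynomial.degree_eq_natDegree hQ0, h]
    refine ⟨by rw [Polynomial.leadingCoeff_add_of_degree_eq hdeg hne]; exact add_pos hP hQ, ?_⟩
    rw [h, max_self]
    refine le_antisymm (Polynomial.natDegree_add_le_of_degree_le h.le le_rfl) (Polynomial.le_natDegree_of_ne_zero ?_)
    rw [Polynomial.coeff_add]
    conv_lhs => arg 1; rw [← h]
    exact hne
  · rw [Polynomial.natDegree_add_eq_left_of_natDegree_lt h, max_eq_left h.le,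
      Polynomial.leadingCoeff_add_of_degree_lt' (Polynomial.degree_lt_degree h)]
    exact ⟨hP, rfl⟩

theorem coeff_shift {P : Polynomial ℚ} {t : ℕ} (h : P.natDegree ≤ t) (c : ℚ) :
    (P.comp (Polynomial.X - Polynomial.C c)).coeff t = P.coeff t := by
  rw [show P.comp (Polynomial.X - Polynomial.C c) = Polynomial.taylor (-c) P by
      rw [Polynomial.taylor_apply, map_neg, sub_eq_add_neg], Polynomial.taylor_coeff,
    Polynomial.eval_eq_sum_range' (n := 1) ((Polynomial.natDegree_hasseDeriv_le P t).trans_lt (by omega))]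
  simp [Polynomial.hasseDeriv_coeff]

/-- `P` is the Hilbert polynomial of `J`. -/
def IsHP (J : Ideal (MvPolynomial (Fin (n + 1)) k)) (P : Polynomial ℚ) : Prop :=
  ∀ᶠ m in atTop, (hfun J m : ℚ) = P.eval (m : ℚ)

theorem IsHP.unique {J : Ideal S} {P Q : Polynomial ℚ} (hP : IsHP J P) (hQ : IsHP J Q) : P = Q := by
  obtain ⟨a, ha⟩ := eventually_atTop.mp (hP.and hQ)
  refine Polynomial.eq_of_infinite_eval_eq _ _ (Set.Infinite.mono ?_
    ((Set.Ici_infinite a).image (Nat.cast_injective (R := ℚ)).injOn))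
  rintro _ ⟨m, hm, rfl⟩
  exact ((ha m hm).1).symm.trans (ha m hm).2

theorem IsHP.devissage {J : Ideal S} (hJ : J.IsHomogeneous (CohB1.polyGrading n k)) {a : S} {e : ℕ}
    (ha : a.IsHomogeneous e) {P Q : Polynomial ℚ} (hP : IsHP (J ⊔ Ideal.span {a}) P) (hQ : IsHP (colonI J a) Q) :
    IsHP J (P + Q.comp (Polynomial.X - Polynomial.C (e : ℚ))) := by
  obtain ⟨A, hA⟩ := eventually_atTop.mp hP
  obtain ⟨B, hB⟩ := eventually_atTop.mp hQ
  refine eventually_atTop.mpr ⟨A + B + e, fun m hm => ?_⟩
  rw [Polynomial.eval_add, Polynomial.eval_comp, Polynomial.eval_sub, Polynomial.eval_X, Polynomial.eval_C,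
    ← Nat.cast_sub (by omega), ← hA m (by omega), ← hB (m - e) (by omega)]
  obtain ⟨l, rfl⟩ : ∃ l, m = l + e := ⟨m - e, by omega⟩
  rw [hfun_colon J hJ ha, Nat.add_sub_cancel]
  push_cast
  rfl

theorem good (J : Ideal S) (hJ : J.IsHomogeneous (CohB1.polyGrading n k)) :
    ∃ P : Polynomial ℚ, IsHP J P ∧ Pos P ∧ (P = 0 → ringKrullDim (S ⧸ J) ≤ 0) ∧
      (P ≠ 0 → ringKrullDim (S ⧸ J) = ((P.natDegree + 1 : ℕ) : WithBot ℕ∞)) := by
  classical
  induction J using IsNoetherian.induction with
  | _ J ih =>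
  by_cases htop : J = ⊤
  · subst htop
    haveI : Subsingleton (S ⧸ (⊤ : Ideal S)) := Ideal.Quotient.subsingleton_iff.mpr rfl
    exact ⟨0, Eventually.of_forall fun m => by rw [hfun_eq_zero (show _ ≤ ((⊤ : Ideal S).restrictScalars k) from fun x _ => Submodule.mem_top (R := S)), Polynomial.eval_zero, Int.cast_zero],
      Or.inl rfl, fun _ => by rw [ringKrullDim_eq_bot_of_subsingleton]; exact bot_le, fun h => absurd rfl h⟩
  by_cases hprime : Ideal.IsPrime J
  · haveI := hprime
    rcases (HomogIdeal.le_mIdeal hJ htop).eq_or_lt with hm | hm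
    · refine ⟨0, eventually_atTop.mpr ⟨1, fun m hm' => ?_⟩, Or.inl rfl, fun _ => ?_, fun h => absurd rfl h⟩
      · rw [hfun_eq_zero, Polynomial.eval_zero, Int.cast_zero]
        intro x hx
        rw [hm, Submodule.restrictScalars_mem, HomogIdeal.mem_mIdeal_iff, constantCoeff_eq]
        by_contra h0
        have := (mem_homogeneousSubmodule _ _).mp hx h0
        rw [map_zero] at this
        omega
      · haveI : Ideal.IsMaximal J := hm ▸ inferInstance
        exact (ringKrullDim_eq_zero_of_isField ((Ideal.Quotient.maximal_ideal_iff_isField_quotient J).mp inferInstance)).le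
    · obtain ⟨i, hi⟩ : ∃ i, (X i : S) ∉ J := by
        by_contra hc
        push Not at hc
        exact hm.not_ge (Ideal.span_le.mpr (by rintro _ ⟨i, rfl⟩; exact hc i))
      have hX : (X i : S).IsHomogeneous 1 := isHomogeneous_X k i
      let J' := J ⊔ Ideal.span {(X i : S)}
      have hlt : J < J' := lt_of_le_of_ne le_sup_left fun h =>
        hi (h ▸ Submodule.mem_sup_right (Ideal.mem_span_singleton_self _))
      obtain ⟨Q, hQ, hQpos, hQ0, hQ1⟩ := ih J' hlt (sup_isHomogeneous hJ hX)
      have hstep : ∀ m, hfun J' (m + 1) = hfun J (m + 1) - hfun J m :=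
        hfun_section J hJ hX fun x hx => (hprime.mem_or_mem hx).resolve_left hi
      have hdim : ringKrullDim (S ⧸ J) = ringKrullDim (S ⧸ J') + 1 :=
        dim_section J hJ hX (Ideal.subset_span ⟨i, rfl⟩) hi
      obtain ⟨P, -, hP⟩ : HilbSam.EvPoly ((Q.comp (Polynomial.X + Polynomial.C 1)).natDegree + 1 + 1)
          (fun m => (hfun J m : ℚ)) := by
        refine HilbSam.EvPoly.of_diff ⟨Q.comp (Polynomial.X + Polynomial.C 1),
          Polynomial.degree_le_natDegree.trans_lt (Nat.cast_lt.2 (Nat.lt_succ_self _)), ?_⟩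
        obtain ⟨A, hA⟩ := eventually_atTop.mp hQ
        refine eventually_atTop.mpr ⟨A, fun m hm' => ?_⟩
        have h1 := hA (m + 1) (by omega)
        rw [hstep] at h1
        push_cast at h1
        rw [Polynomial.eval_comp, Polynomial.eval_add, Polynomial.eval_X, Polynomial.eval_C]
        exact h1
      obtain ⟨A, hA⟩ := eventually_atTop.mp hP
      have hQeq : Q = P - P.comp (Polynomial.X - Polynomial.C (1 : ℚ)) := hQ.unique (eventually_atTop.mpr ⟨A + 1, fun m hm' => by
        obtain ⟨l, rfl⟩ : ∃ l, m = l + 1 := ⟨m - 1, by omega⟩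
        have e1 := hA (l + 1) (by omega)
        have e2 := hA l (by omega)
        rw [hstep, Polynomial.eval_sub, Polynomial.eval_comp, Polynomial.eval_sub, Polynomial.eval_X, Polynomial.eval_C]
        push_cast at e1 ⊢
        rw [add_sub_cancel_right, ← e1, ← e2]⟩)
      refine ⟨P, hP, ?_⟩
      by_cases hd : P.natDegree = 0
      · obtain ⟨c, rfl⟩ := Polynomial.natDegree_eq_zero.mp hd
        have hc : (1 : ℚ) ≤ c := by
          have h1 := hA A le_rfl
          rw [Polynomial.eval_C] at h1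
          rw [← h1]
          have := one_le_hfun (k := k) (n := n) (J := J) (m := A) (isHomogeneous_X_pow i A)
            fun h => hi (hprime.mem_of_pow_mem A h)
          show (1 : ℚ) ≤ (hfun J A : ℚ)
          exact_mod_cast this
        have hQz : Q = 0 := by rw [hQeq, Polynomial.C_comp, sub_self]
        refine ⟨Or.inr (by rw [Polynomial.leadingCoeff_C]; linarith), fun h => ?_, fun _ => ?_⟩
        · rw [Polynomial.C_eq_zero] at h; linarith
        · rw [Polynomial.natDegree_C, hdim]
          have hne : J' ≠ ⊤ := fun h => by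
            have hle : J' ≤ HomogIdeal.mIdeal k n :=
              sup_le (HomogIdeal.le_mIdeal hJ htop) ((Ideal.span_singleton_le_iff_mem _).mpr (Ideal.subset_span ⟨i, rfl⟩))
            exact (HomogIdeal.mIdeal_isMaximal (k := k) (n := n)).ne_top (top_le_iff.mp (h ▸ hle))
          obtain ⟨s, hs⟩ := exists_dim hne
          have hs0 := hQ0 hQz
          rw [hs] at hs0 ⊢
          have : s = 0 := Nat.le_zero.mp (by exact_mod_cast hs0)
          subst this
          rfl
      · obtain ⟨h1, h2⟩ := natDegree_sub_comp (P := P) (by omega) (1 : ℚ) one_ne_zero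
        rw [← hQeq] at h1 h2
        have hPne : P ≠ 0 := fun h => hd (by simp [h])
        have hQne : Q ≠ 0 := fun h => by
          rw [h, Polynomial.leadingCoeff_zero, one_mul, eq_comm] at h2
          exact mul_ne_zero (Nat.cast_ne_zero.mpr hd) (Polynomial.leadingCoeff_ne_zero.mpr hPne) h2
        refine ⟨Or.inr ?_, fun h => absurd h hPne, fun _ => ?_⟩
        · have h3 := hQpos.resolve_left hQne
          rw [h2, one_mul] at h3
          exact (mul_pos_iff_of_pos_left (Nat.cast_pos.mpr (Nat.pos_of_ne_zero hd))).mp h3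
        · rw [hdim, hQ1 hQne, h1]
          rfl
  · obtain ⟨a, b, ⟨e, ha⟩, hb, hab, haJ, hbJ⟩ : ∃ a b, SetLike.IsHomogeneousElem (CohB1.polyGrading n k) a ∧
        SetLike.IsHomogeneousElem (CohB1.polyGrading n k) b ∧ a * b ∈ J ∧ a ∉ J ∧ b ∉ J := by
      by_contra hc
      push Not at hc
      exact hprime (hJ.isPrime_of_homogeneous_mem_or_mem htop fun {x y} hx hy hxy =>
        or_iff_not_imp_left.mpr fun hxJ => hc x y hx hy hxy hxJ)
    have ha' : a.IsHomogeneous e := (mem_homogeneousSubmodule _ _).mp ha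
    obtain ⟨P, hP, hPpos, hP0, hP1⟩ := ih (J ⊔ Ideal.span {a})
      (lt_of_le_of_ne le_sup_left fun h => haJ (h ▸ Submodule.mem_sup_right (Ideal.mem_span_singleton_self _)))
      (sup_isHomogeneous hJ ha')
    obtain ⟨Q, hQ, hQpos, hQ0, hQ1⟩ := ih (colonI J a)
      (lt_of_le_of_ne (fun x hx => mem_colonI.mpr (Ideal.mul_mem_left J a hx)) fun h => hbJ (h ▸ mem_colonI.mpr hab))
      (colonI_isHomogeneous hJ ha')
    let Q' := Q.comp (Polynomial.X - Polynomial.C (e : ℚ))
    have hlc : Q'.leadingCoeff = Q.leadingCoeff := by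
      rw [Polynomial.leadingCoeff_comp (by rw [Polynomial.natDegree_X_sub_C]; exact one_ne_zero),
        Polynomial.leadingCoeff_X_sub_C, one_pow, mul_one]
    have hQ'0 : Q' = 0 ↔ Q = 0 := by
      rw [← Polynomial.leadingCoeff_eq_zero, hlc, Polynomial.leadingCoeff_eq_zero]
    have hdeg : Q'.natDegree = Q.natDegree := by
      rw [Polynomial.natDegree_comp, Polynomial.natDegree_X_sub_C, mul_one]
    have hQ'pos : Pos Q' := hQpos.imp hQ'0.mpr (fun h => hlc ▸ h)
    obtain ⟨hpos, hzero, hnd⟩ := pos_add hPpos hQ'pos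
    refine ⟨P + Q', hP.devissage hJ ha' hQ, hpos, fun h => ?_, fun h => ?_⟩
    · rw [dim_eq_max J a]
      exact max_le (hP0 (hzero h).1) (hQ0 (hQ'0.mp (hzero h).2))
    · rw [dim_eq_max J a, hnd, hdeg]
      rcases eq_or_ne P 0 with hPz | hPz <;> rcases eq_or_ne Q 0 with hQz | hQz
      · exact absurd (by rw [hPz, hQ'0.mpr hQz, add_zero]) h
      · rw [hQ1 hQz, hPz, Polynomial.natDegree_zero, max_eq_right (Nat.zero_le _)]
        exact max_eq_right ((hP0 hPz).trans (by exact_mod_cast Nat.zero_le _))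
      · rw [hP1 hPz, hQz, Polynomial.natDegree_zero, max_eq_left (Nat.zero_le P.natDegree)]
        exact max_eq_left ((hQ0 hQz).trans (by exact_mod_cast Nat.zero_le _))
      · rw [hP1 hPz, hQ1 hQz]
        rcases le_total P.natDegree Q.natDegree with hle | hle
        · rw [max_eq_right hle, max_eq_right]
          exact_mod_cast Nat.add_le_add_right hle 1
        · rw [max_eq_left hle, max_eq_left]
          exact_mod_cast Nat.add_le_add_right hle 1

theorem dim_eq_natDegree_add_one {J : Ideal S} (hJ : J.IsHomogeneous (CohB1.polyGrading n k)) {P : Polynomial ℚ}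
    (hP : IsHP J P) (hP0 : P ≠ 0) : ringKrullDim (S ⧸ J) = ((P.natDegree + 1 : ℕ) : WithBot ℕ∞) := by
  obtain ⟨P', hP', -, -, h⟩ := good J hJ
  obtain rfl := hP.unique hP'
  exact h hP0

theorem natDegree_le_of_dim_le {J : Ideal S} (hJ : J.IsHomogeneous (CohB1.polyGrading n k)) {P : Polynomial ℚ}
    (hP : IsHP J P) {t : ℕ} (ht : ringKrullDim (S ⧸ J) ≤ ((t + 1 : ℕ) : WithBot ℕ∞)) : P.natDegree ≤ t := by
  rcases eq_or_ne P 0 with rfl | h
  · simp
  · rw [dim_eq_natDegree_add_one hJ hP h] at ht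
    have : P.natDegree + 1 ≤ t + 1 := by exact_mod_cast ht
    omega

/-- The multiplicity of `S ⧸ J` at the prime `p`. -/
noncomputable def lenAt (J p : Ideal (MvPolynomial (Fin (n + 1)) k)) [p.IsPrime] : ℕ∞ :=
  Module.length (Localization.AtPrime p) (LocalizedModule p.primeCompl (MvPolynomial (Fin (n + 1)) k ⧸ J))

theorem lenAt_eq_zero {J p : Ideal S} [p.IsPrime] (h : ¬ J ≤ p) : lenAt J p = 0 := by
  obtain ⟨x, hxJ, hxp⟩ := SetLike.not_le_iff_exists.mp h
  rw [lenAt, Module.length_eq_zero_iff, LocalizedModule.subsingleton_iff]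
  intro v
  obtain ⟨y, rfl⟩ := Ideal.Quotient.mk_surjective v
  exact ⟨x, hxp, Ideal.Quotient.eq_zero_iff_mem.mpr (J.mul_mem_right y hxJ)⟩

theorem lenAt_self (p : Ideal S) [p.IsPrime] : lenAt p p = 1 := by
  rw [lenAt, Module.length_eq_one_iff, isSimpleModule_iff_toSpanSingleton_surjective]
  refine ⟨?_, fun v hv w => ?_⟩
  · refine ⟨LocalizedModule.mk (1 : S ⧸ p) 1, 0, fun h => ?_⟩
    rw [← LocalizedModule.zero_mk 1, LocalizedModule.mk_eq] at h
    obtain ⟨c, hc⟩ := h
    simp only [Submonoid.smul_def, OneMemClass.coe_one, one_smul, smul_zero] at hc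
    refine c.2 (Ideal.Quotient.eq_zero_iff_mem.mp ?_)
    rw [← Ideal.Quotient.algebraMap_eq, Algebra.algebraMap_eq_smul_one]
    exact hc
  · induction v using LocalizedModule.induction_on with
    | _ a s =>
    induction w using LocalizedModule.induction_on with
    | _ b t =>
    obtain ⟨a, rfl⟩ := Ideal.Quotient.mk_surjective a
    obtain ⟨b, rfl⟩ := Ideal.Quotient.mk_surjective b
    have ha : a ∈ p.primeCompl := fun h => hv (by
      rw [Ideal.Quotient.eq_zero_iff_mem.mpr h, LocalizedModule.zero_mk])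
    refine ⟨Localization.mk (s * b) (t * ⟨a, ha⟩), ?_⟩
    rw [LinearMap.toSpanSingleton_apply, LocalizedModule.mk_smul_mk, LocalizedModule.mk_eq]
    refine ⟨1, ?_⟩
    simp only [Submonoid.smul_def, Submonoid.coe_mul, OneMemClass.coe_one, one_smul]
    rw [← Ideal.Quotient.mk_eq_mk, ← Ideal.Quotient.mk_eq_mk, ← Submodule.Quotient.mk_smul,
      ← Submodule.Quotient.mk_smul, ← Submodule.Quotient.mk_smul]
    congr 1
    simp only [smul_eq_mul]
    ring

theorem lenAt_devissage (J p : Ideal S) [p.IsPrime] (a : S) :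
    lenAt J p = lenAt (colonI J a) p + lenAt (J ⊔ Ideal.span {a}) p := by
  let f : (S ⧸ colonI J a) →ₗ[S] (S ⧸ J) :=
    Submodule.mapQ (colonI J a) J (LinearMap.mulLeft S a) le_rfl
  let g : (S ⧸ J) →ₗ[S] (S ⧸ (J ⊔ Ideal.span {a})) := Submodule.factor le_sup_left
  have hf : Function.Injective f := by
    rw [injective_iff_map_eq_zero]
    intro x hx
    obtain ⟨x, rfl⟩ := Submodule.Quotient.mk_surjective _ x
    rw [Submodule.mapQ_apply, Submodule.Quotient.mk_eq_zero] at hx
    exact (Submodule.Quotient.mk_eq_zero _).mpr hx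
  have hg : Function.Surjective g := Submodule.factor_surjective _
  have hfg : Function.Exact f g := by
    intro y
    obtain ⟨y, rfl⟩ := Submodule.Quotient.mk_surjective _ y
    rw [show g (Submodule.Quotient.mk y) = Submodule.Quotient.mk y from rfl, Submodule.Quotient.mk_eq_zero]
    constructor
    · intro hy
      obtain ⟨u, hu, v, hv, rfl⟩ := Submodule.mem_sup.mp hy
      obtain ⟨c, rfl⟩ := Ideal.mem_span_singleton'.mp hv
      refine ⟨Submodule.Quotient.mk c, ?_⟩
      rw [Submodule.mapQ_apply, Submodule.Quotient.eq]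
      change a * c - (u + c * a) ∈ J
      rw [show a * c - (u + c * a) = -u by ring]
      exact neg_mem hu
    · rintro ⟨x, hx⟩
      obtain ⟨x, rfl⟩ := Submodule.Quotient.mk_surjective _ x
      rw [Submodule.mapQ_apply, Submodule.Quotient.eq] at hx
      have h1 : a * x - (a * x - y) ∈ J ⊔ Ideal.span {a} :=
        sub_mem (Submodule.mem_sup_right (Ideal.mul_mem_right _ _ (Ideal.mem_span_singleton_self a)))
          (Submodule.mem_sup_left hx)
      rwa [sub_sub_cancel] at h1
  exact Module.length_eq_add_of_exact (LocalizedModule.map p.primeCompl f) (LocalizedModule.map p.primeCompl g)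
    (LocalizedModule.map_injective p.primeCompl f hf) (LocalizedModule.map_surjective p.primeCompl g hg)
    (LocalizedModule.map_exact p.primeCompl f g hfg)

/-- The top coefficient is additive over the components of top dimension. -/
theorem coeff_eq_sum {ι : Type*} [Fintype ι] (t : ℕ) (q : ι → Ideal S) [hq : ∀ i, (q i).IsPrime]
    (hqinj : Function.Injective q) (hqdim : ∀ i, ringKrullDim (S ⧸ q i) = ((t + 1 : ℕ) : WithBot ℕ∞))
    (R : ι → Polynomial ℚ) (hR : ∀ i, IsHP (q i) (R i))
    (J : Ideal S) (hJ : J.IsHomogeneous (CohB1.polyGrading n k))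
    (hdim : ringKrullDim (S ⧸ J) ≤ ((t + 1 : ℕ) : WithBot ℕ∞))
    (hall : ∀ p : Ideal S, p.IsPrime → J ≤ p → ringKrullDim (S ⧸ p) = ((t + 1 : ℕ) : WithBot ℕ∞) → ∃ i, q i = p)
    (P : Polynomial ℚ) (hP : IsHP J P) :
    (∀ i, lenAt J (q i) ≠ ⊤) ∧ P.coeff t = ∑ i, ((lenAt J (q i)).toNat : ℚ) * (R i).coeff t := by
  classical
  induction J using IsNoetherian.induction generalizing P with
  | _ J ih =>
  by_cases htop : J = ⊤
  · subst htop
    have hP0 : P = 0 := hP.unique (Eventually.of_forall fun m => by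
      rw [hfun_eq_zero (show _ ≤ ((⊤ : Ideal S).restrictScalars k) from fun x _ => Submodule.mem_top (R := S)), Polynomial.eval_zero, Int.cast_zero])
    have h0 : ∀ i, lenAt (⊤ : Ideal S) (q i) = 0 := fun i =>
      lenAt_eq_zero fun h => (hq i).ne_top (top_le_iff.mp h)
    simp [h0, hP0]
  by_cases hprime : Ideal.IsPrime J
  · have hnot : ∀ i, q i ≠ J → ¬ J ≤ q i := fun i hne hle => by
      haveI := hprime
      have := (dim_lt_of_lt (lt_of_le_of_ne hle (Ne.symm hne))).trans_le hdim
      rw [hqdim] at this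
      exact lt_irrefl _ this
    by_cases hex : ∃ i, q i = J
    · obtain ⟨i, rfl⟩ := hex
      have hz : ∀ j, j ≠ i → lenAt (q i) (q j) = 0 := fun j hj => lenAt_eq_zero (hnot j fun h => hj (hqinj h))
      refine ⟨fun j => ?_, ?_⟩
      · rcases eq_or_ne j i with rfl | hj
        · simp [lenAt_self]
        · simp [hz j hj]
      · rw [Finset.sum_eq_single i (fun j _ hj => by simp [hz j hj]) (by simp), lenAt_self, hP.unique (hR i)]
        simp
    · push Not at hex
      have h0 : ∀ i, lenAt J (q i) = 0 := fun i => lenAt_eq_zero (hnot i (hex i))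
      refine ⟨fun i => by simp [h0], ?_⟩
      simp only [h0, ENat.toNat_zero, Nat.cast_zero, zero_mul, Finset.sum_const_zero]
      by_contra hc
      have hP0 : P ≠ 0 := fun h => hc (by simp [h])
      have hd := dim_eq_natDegree_add_one hJ hP hP0
      have h1 := Polynomial.le_natDegree_of_ne_zero hc
      have h2 := natDegree_le_of_dim_le hJ hP hdim
      obtain ⟨i, hi⟩ := hall J hprime le_rfl (by rw [hd, le_antisymm h2 h1])
      exact hex i hi
  · obtain ⟨a, b, ⟨e, ha⟩, hb, hab, haJ, hbJ⟩ : ∃ a b, SetLike.IsHomogeneousElem (CohB1.polyGrading n k) a ∧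
        SetLike.IsHomogeneousElem (CohB1.polyGrading n k) b ∧ a * b ∈ J ∧ a ∉ J ∧ b ∉ J := by
      by_contra hc
      push Not at hc
      exact hprime (hJ.isPrime_of_homogeneous_mem_or_mem htop fun {x y} hx hy hxy =>
        or_iff_not_imp_left.mpr fun hxJ => hc x y hx hy hxy hxJ)
    have ha' : a.IsHomogeneous e := (mem_homogeneousSubmodule _ _).mp ha
    have hle1 : J ≤ J ⊔ Ideal.span {a} := le_sup_left
    have hle2 : J ≤ colonI J a := fun x hx => mem_colonI.mpr (Ideal.mul_mem_left J a hx)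
    have hJ1 := sup_isHomogeneous hJ ha'
    have hJ2 := colonI_isHomogeneous hJ ha'
    obtain ⟨P₁, hP₁, -, -, -⟩ := good _ hJ1
    obtain ⟨P₂, hP₂, -, -, -⟩ := good _ hJ2
    obtain ⟨f1, e1⟩ := ih _ (lt_of_le_of_ne hle1 fun h => haJ (h ▸ Submodule.mem_sup_right (Ideal.mem_span_singleton_self _)))
      hJ1 ((dim_mono hle1).trans hdim) (fun p hp hle => hall p hp (hle1.trans hle)) P₁ hP₁
    obtain ⟨f2, e2⟩ := ih _ (lt_of_le_of_ne hle2 fun h => hbJ (h ▸ mem_colonI.mpr hab))
      hJ2 ((dim_mono hle2).trans hdim) (fun p hp hle => hall p hp (hle2.trans hle)) P₂ hP₂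
    have hadd : ∀ i, lenAt J (q i) = lenAt (colonI J a) (q i) + lenAt (J ⊔ Ideal.span {a}) (q i) :=
      fun i => lenAt_devissage J (q i) a
    refine ⟨fun i => by rw [hadd]; exact WithTop.add_ne_top.mpr ⟨f2 i, f1 i⟩, ?_⟩
    rw [hP.unique (hP₁.devissage hJ ha' hP₂), Polynomial.coeff_add,
      coeff_shift (natDegree_le_of_dim_le hJ2 hP₂ ((dim_mono hle2).trans hdim)), e1, e2, ← Finset.sum_add_distrib]
    refine Finset.sum_congr rfl fun i _ => ?_
    rw [hadd, ENat.toNat_add (f2 i) (f1 i)]
    push_cast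
    ring

theorem isHP_of_eval {J : Ideal S} {P : Polynomial ℚ} (hP : ∃ m₀ : ℕ, ∀ m : ℕ, m₀ ≤ m → P.eval (m : ℚ) =
      (Module.finrank k ↥(CohB1.polyGrading n k m) : ℚ) -
        Module.finrank k ↥(Submodule.restrictScalars k J ⊓ CohB1.polyGrading n k m)) : IsHP J P := by
  obtain ⟨a, ha⟩ := hP
  exact eventually_atTop.mpr ⟨a, fun m hm => by rw [ha m hm, hfun, Int.cast_sub, Int.cast_natCast, Int.cast_natCast]⟩

/-- The degree of a projective scheme is the sum over its components of top dimension. -/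
theorem degree_eq_sum {I : Ideal S} (hI : I.IsHomogeneous (CohB1.polyGrading n k)) {P : Polynomial ℚ}
    (hP : IsHP I P) {r : ℕ} (p : Fin r → Ideal S) [hp : ∀ i, (p i).IsPrime] (hpinj : Function.Injective p)
    (hpmin : ∀ q : Ideal S, q ∈ I.minimalPrimes ↔ ∃ i, q = p i) (Qp : Fin r → Polynomial ℚ)
    (hQp : ∀ i, IsHP (p i) (Qp i)) :
    (P.natDegree.factorial : ℚ) * P.leadingCoeff =
      ∑ i : Fin r, if (Qp i).natDegree = P.natDegree then
        ((Qp i).natDegree.factorial : ℚ) * (Qp i).leadingCoeff * ((lenAt I (p i)).toNat : ℚ) else 0 := by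
  classical
  have hIp : ∀ i, I ≤ p i := fun i => ((hpmin _).mpr ⟨i, rfl⟩).1.2
  have hhom : ∀ i, (p i).IsHomogeneous (CohB1.polyGrading n k) := fun i =>
    HomogIdeal.isHomogeneous_of_mem_minimalPrimes hI ((hpmin _).mpr ⟨i, rfl⟩)
  obtain ⟨P', hP', -, hz, hnz⟩ := good I hI
  obtain rfl := hP.unique hP'
  by_cases hP0 : P = 0
  · have h : ∀ i, Qp i = 0 := fun i => by
      by_contra h
      have h1 := ((dim_eq_natDegree_add_one (hhom i) (hQp i) h).ge.trans (dim_mono (hIp i))).trans (hz hP0)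
      have : (Qp i).natDegree + 1 ≤ 0 := by exact_mod_cast h1
      omega
    simp [hP0, h]
  let T := {i : Fin r // ringKrullDim (S ⧸ p i) = ((P.natDegree + 1 : ℕ) : WithBot ℕ∞)}
  have hdim := hnz hP0
  obtain ⟨-, hsum⟩ := coeff_eq_sum P.natDegree (fun i : T => p i) (hq := fun i => hp i)
    (fun a b h => Subtype.ext (hpinj h)) (fun i => i.2) (fun i : T => Qp i) (fun i => hQp i) I hI hdim.le
    (fun q hq hle hqd => by
      obtain ⟨q₀, hq₀, hle₀⟩ := Ideal.exists_minimalPrimes_le hle
      haveI := hq₀.1.1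
      haveI := hq
      obtain ⟨i, rfl⟩ := (hpmin _).mp hq₀
      have heq : p i = q := by
        by_contra hne
        have h1 := (dim_lt_of_lt (lt_of_le_of_ne hle₀ hne)).trans_le ((dim_mono (hIp i)).trans hdim.le)
        rw [hqd] at h1
        exact lt_irrefl _ h1
      exact ⟨⟨i, heq ▸ hqd⟩, heq⟩) P hP
  rw [Polynomial.leadingCoeff, hsum, Finset.mul_sum,
    ← Finset.sum_subtype (Finset.univ.filter fun i => ringKrullDim (S ⧸ p i) = ((P.natDegree + 1 : ℕ) : WithBot ℕ∞))
      (by simp) (fun i => (P.natDegree.factorial : ℚ) * (((lenAt I (p i)).toNat : ℚ) * (Qp i).coeff P.natDegree)),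
    Finset.sum_filter]
  refine Finset.sum_congr rfl fun i _ => ?_
  by_cases hd : ringKrullDim (S ⧸ p i) = ((P.natDegree + 1 : ℕ) : WithBot ℕ∞)
  · rw [if_pos hd]
    have hle := natDegree_le_of_dim_le (hhom i) (hQp i) hd.le
    split
    next h => rw [h, ← h, Polynomial.coeff_natDegree]; ring
    next h => rw [Polynomial.coeff_eq_zero_of_natDegree_lt (lt_of_le_of_ne hle h)]; ring
  · rw [if_neg hd]
    split
    next h =>
      rcases eq_or_ne (Qp i) 0 with hq0 | hq0
      · simp [hq0]
      · exact absurd (by rw [dim_eq_natDegree_add_one (hhom i) (hQp i) hq0, h]) hd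
    next => rfl

/-- Bézout for a hypersurface section of a projective variety. -/
theorem bezout {I : Ideal S} (hI : I.IsHomogeneous (CohB1.polyGrading n k)) [I.IsPrime] {f : S} {d : ℕ}
    (hd : 0 < d) (hf : f.IsHomogeneous d) (hfI : f ∉ I) {P : Polynomial ℚ} (hP : IsHP I P) (hdim : 1 ≤ P.natDegree)
    {r : ℕ} (p : Fin r → Ideal S) [hp : ∀ i, (p i).IsPrime] (hpinj : Function.Injective p)
    (hpmin : ∀ q : Ideal S, q ∈ (I ⊔ Ideal.span {f}).minimalPrimes ↔ ∃ i, q = p i) (Qp : Fin r → Polynomial ℚ)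
    (hQp : ∀ i, IsHP (p i) (Qp i)) :
    (d : ℚ) * ((P.natDegree.factorial : ℚ) * P.leadingCoeff) = ∑ i : Fin r,
      ((Qp i).natDegree.factorial : ℚ) * (Qp i).leadingCoeff * ((lenAt (I ⊔ Ideal.span {f}) (p i)).toNat : ℚ) := by
  classical
  have hI' := sup_isHomogeneous hI hf
  obtain ⟨Q, hQ, -, -, -⟩ := good _ hI'
  obtain ⟨h1, h2⟩ := section_degree I hI f d hd hf hfI P Q
    (by obtain ⟨a, ha⟩ := eventually_atTop.mp hP; exact ⟨a, fun m hm => (ha m hm).symm⟩)
    (by obtain ⟨a, ha⟩ := eventually_atTop.mp hQ; exact ⟨a, fun m hm => (ha m hm).symm⟩) hdim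
  rw [← h2, degree_eq_sum hI' hQ p hpinj hpmin Qp hQp]
  refine Finset.sum_congr rfl fun i _ => ?_
  rw [if_pos]
  -- every component has codimension one
  have hP0 : P ≠ 0 := fun h => by simp [h] at hdim
  have hIdim := dim_eq_natDegree_add_one hI hP hP0
  have hmem := (hpmin _).mpr ⟨i, rfl⟩
  have hIle : I ≤ p i := le_sup_left.trans hmem.1.2
  let F := S ⧸ I
  let π : S →+* F := Ideal.Quotient.mk I
  let q : Ideal F := (p i).map π
  haveI hqp : q.IsPrime := Ideal.map_isPrime_of_surjective Ideal.Quotient.mk_surjective (by rwa [Ideal.mk_ker])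
  have hcomap : q.comap π = p i := by
    rw [Ideal.comap_map_of_surjective _ Ideal.Quotient.mk_surjective, ← RingHom.ker_eq_comap_bot, Ideal.mk_ker]
    exact sup_eq_left.mpr hIle
  have hq : q ∈ (Ideal.span {π f}).minimalPrimes := by
    refine ⟨⟨hqp, (Ideal.span_singleton_le_iff_mem _).mpr (Ideal.mem_map_of_mem _
      (hmem.1.2 (Submodule.mem_sup_right (Ideal.mem_span_singleton_self f))))⟩, fun q' hq' hle => ?_⟩
    have h3 : p i ≤ q'.comap π := hmem.2 ⟨(haveI := hq'.1; Ideal.IsPrime.comap π), sup_le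
      (fun x hx => show π x ∈ q' by rw [Ideal.Quotient.eq_zero_iff_mem.mpr hx]; exact zero_mem _)
      ((Ideal.span_singleton_le_iff_mem _).mpr (hq'.2 (Ideal.mem_span_singleton_self _)))⟩
      ((Ideal.comap_mono hle).trans hcomap.le)
    exact Ideal.map_le_iff_le_comap.mpr h3
  have hh1 : q.height ≤ 1 := Ideal.height_le_one_of_isPrincipal_of_mem_minimalPrimes _ q hq
  have hh0 : q.height ≠ 0 := fun h => by
    rw [Ideal.height_eq_zero_iff, IsDomain.minimalPrimes_eq_singleton_bot, Set.mem_singleton_iff] at h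
    have hmem' : π f ∈ q := hq.1.2 (Ideal.mem_span_singleton_self _)
    rw [h, Submodule.mem_bot] at hmem'
    exact hfI (Ideal.Quotient.eq_zero_iff_mem.mp hmem')
  have hform := DimFormula.height_add_ringKrullDim_quotient k (F := F) ⟨q, hqp⟩
  rw [le_antisymm hh1 (Order.one_le_iff_pos.mpr (pos_iff_ne_zero.mpr hh0)), hIdim,
    ringKrullDim_eq_of_ringEquiv ((DoubleQuot.quotQuotEquivQuotSup I (p i)).trans
      (Ideal.quotEquivOfEq (sup_eq_right.mpr hIle)))] at hform
  obtain ⟨s, hs⟩ := exists_dim (k := k) (n := n) (J := p i) (hp i).ne_top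
  rw [hs] at hform
  have hs' : 1 + s = P.natDegree + 1 := by exact_mod_cast hform
  have hhom := HomogIdeal.isHomogeneous_of_mem_minimalPrimes hI' hmem
  have hQp0 : Qp i ≠ 0 := fun h => by
    obtain ⟨Q', hQ', -, hz, -⟩ := good _ hhom
    have h4 := hz ((hQ'.unique (hQp i)).trans h)
    rw [hs] at h4
    have : s ≤ 0 := by exact_mod_cast h4
    omega
  have h5 := dim_eq_natDegree_add_one hhom (hQp i) hQp0
  rw [hs] at h5
  have : s = (Qp i).natDegree + 1 := by exact_mod_cast h5
  omega

end Groth.Agent.CIHilb
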