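import Groth.Agent.CIHilb.Degree
import Groth.Agent.Goren.Colon

/-!
Degrees of linked ideals inside a Gorenstein quotient.
-/

set_option autoImplicit false
set_option linter.style.haveILetI false
universe u

open IsLocalRing

namespace Groth.Agent.CIHilb

section Artin

variable {A : Type u} [CommRing A] [LocCoh.IsGorensteinLocalRing A]

/-- The annihilator of an ideal. -/
def annI (J : Ideal A) : Ideal A := (⊥ : Ideal A).colon (J : Set A)

omit [LocCoh.IsGorensteinLocalRing A] in
theorem mem_annI {J : Ideal A} {y : A} : y ∈ annI J ↔ ∀ j ∈ J, y * j = 0 := by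
  simp [annI, Submodule.mem_annihilator, smul_eq_mul]

omit [LocCoh.IsGorensteinLocalRing A] in
theorem annI_anti {J K : Ideal A} (h : J ≤ K) : annI K ≤ annI J := fun _ hy =>
  mem_annI.mpr fun j hj => mem_annI.mp hy j (h hj)

theorem annI_annI (hd : ringKrullDim A = 0) (J : Ideal A) : annI (annI J) = J :=
  le_antisymm (fun x hx => Goren.mem_of_ann_ann A hd J x fun y hy => by
    rw [mul_comm]; exact mem_annI.mp hx y (mem_annI.mpr hy))
    fun x hx => mem_annI.mpr fun y hy => by rw [mul_comm]; exact mem_annI.mp hy x hx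

/-- In a zero-dimensional Gorenstein local ring `length A/J = length (0 : J)`. -/
theorem length_quot_eq (hd : ringKrullDim A = 0) (J : Ideal A) :
    Module.length A (A ⧸ J) = Module.length A ↥(annI J) := by
  apply WithBot.coe_injective
  rw [Module.length_quotient, Module.length_submodule, Order.coheight_eq_krullDim_Ici,
    Order.height_eq_krullDim_Iic]
  let e : Set.Ici J ≃o (Set.Iic (annI J))ᵒᵈ :=
    { toFun := fun K => OrderDual.toDual ⟨annI K.1, annI_anti K.2⟩
      invFun := fun K => ⟨annI (OrderDual.ofDual K).1, (annI_annI hd J).ge.trans (annI_anti (OrderDual.ofDual K).2)⟩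
      left_inv := fun K => Subtype.ext (annI_annI hd K.1)
      right_inv := fun K => OrderDual.ofDual.injective (Subtype.ext (annI_annI hd _))
      map_rel_iff' := fun {K L} => by
        refine ⟨fun h => ?_, fun h => annI_anti h⟩
        have h' := annI_anti (A := A) (show annI L.1 ≤ annI K.1 from h)
        rwa [annI_annI hd, annI_annI hd] at h' }
  rw [Order.krullDim_eq_of_orderIso e, Order.krullDim_orderDual]

theorem length_add (hd : ringKrullDim A = 0) (J : Ideal A) :
    Module.length A (A ⧸ annI J) + Module.length A (A ⧸ J) = Module.length A A := by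
  rw [length_quot_eq hd J, add_comm]
  exact (Module.length_eq_add_of_exact (annI J).subtype (Submodule.mkQ (annI J)) (Submodule.injective_subtype _)
    (Submodule.mkQ_surjective _) (LinearMap.exact_subtype_mkQ _)).symm

end Artin

section Local

variable {R : Type u} [CommRing R] [IsNoetherianRing R] (p : Ideal R) [p.IsPrime]

omit [IsNoetherianRing R] in
theorem length_localized_quot (K : Ideal R) :
    Module.length (Localization.AtPrime p) (LocalizedModule p.primeCompl (R ⧸ K)) =
      Module.length (Localization.AtPrime p)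
        (Localization.AtPrime p ⧸ K.map (algebraMap R (Localization.AtPrime p))) := by
  let T := Localization.AtPrime p
  let e : LocalizedModule p.primeCompl (R ⧸ K) ≃ₗ[R]
      (T ⧸ Submodule.localized' T p.primeCompl (Algebra.linearMap R T) K) :=
    IsLocalizedModule.linearEquiv p.primeCompl (LocalizedModule.mkLinearMap p.primeCompl (R ⧸ K))
      (K.toLocalizedQuotient' T p.primeCompl (Algebra.linearMap R T))
  exact ((e.extendScalarsOfIsLocalization p.primeCompl T).trans
    (Submodule.quotEquivOfEq _ _ (Ideal.localized'_eq_map T p.primeCompl K))).length_eq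

variable (C : Ideal R)

theorem gorenstein_localized [LocCoh.IsGorensteinRing (R ⧸ C)] (hCp : C ≤ p) :
    LocCoh.IsGorensteinLocalRing (Localization.AtPrime p ⧸ C.map (algebraMap R (Localization.AtPrime p))) := by
  have hker : RingHom.ker (Ideal.Quotient.mk C) ≤ p := by rwa [Ideal.mk_ker]
  haveI : (p.map (Ideal.Quotient.mk C)).IsPrime := Ideal.map_isPrime_of_surjective Ideal.Quotient.mk_surjective hker
  have hP : (p.map (Ideal.Quotient.mk C)).comap (Ideal.Quotient.mk C) = p := by
    rw [Ideal.comap_map_of_surjective' _ Ideal.Quotient.mk_surjective, sup_eq_left.2 hker]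
  obtain ⟨e⟩ := Goren.quot_localization R C (p.map (Ideal.Quotient.mk C))
  have h := (Goren.gorenstein_equiv_iff e).2 (LocCoh.IsGorensteinRing.isGorensteinLocalRing_localization _)
  revert h
  rw! [hP]
  exact id

theorem lenAt_link_gen [LocCoh.IsGorensteinRing (R ⧸ C)] (hp : p ∈ C.minimalPrimes) (I : Ideal R) (hCI : C ≤ I) :
    Module.length (Localization.AtPrime p) (LocalizedModule p.primeCompl (R ⧸ C.colon (I : Set R))) +
      Module.length (Localization.AtPrime p) (LocalizedModule p.primeCompl (R ⧸ I)) =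
      Module.length (Localization.AtPrime p) (LocalizedModule p.primeCompl (R ⧸ C)) := by
  classical
  set T := Localization.AtPrime p
  set CT := C.map (algebraMap R T)
  haveI := gorenstein_localized p C hp.1.2
  have hd : ringKrullDim (T ⧸ CT) = 0 := by
    have hmin : maximalIdeal T ∈ CT.minimalPrimes := by
      rw [← Localization.AtPrime.map_eq_maximalIdeal]
      exact (Goren.minimal_localized C hp p le_rfl).1
    haveI : Nontrivial (T ⧸ CT) := Ideal.Quotient.nontrivial_iff.mpr fun h => hmin.1.1.ne_top (top_le_iff.mp (h ▸ hmin.1.2))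
    haveI : Ring.KrullDimLE 0 (T ⧸ CT) := Ring.krullDimLE_zero_iff.mpr fun q hq => by
      haveI := hq
      have h1 : q.comap (Ideal.Quotient.mk CT) = maximalIdeal T := le_antisymm
        (IsLocalRing.le_maximalIdeal (Ideal.IsPrime.ne_top inferInstance))
        (hmin.2 ⟨inferInstance, fun x hx => by
          rw [Ideal.mem_comap, Ideal.Quotient.eq_zero_iff_mem.2 hx]; exact zero_mem _⟩
          (IsLocalRing.le_maximalIdeal (Ideal.IsPrime.ne_top inferInstance)))
      have h2 : (q.comap (Ideal.Quotient.mk CT)).IsMaximal := h1 ▸ maximalIdeal.isMaximal T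
      rw [← Ideal.map_comap_of_surjective _ Ideal.Quotient.mk_surjective q]
      exact h2.map_of_surjective_of_ker_le Ideal.Quotient.mk_surjective
        (fun x hx => by rw [Ideal.mem_comap, RingHom.mem_ker.mp hx]; exact zero_mem _)
    exact (ringKrullDimZero_iff_ringKrullDim_eq_zero).1 inferInstance
  let φ : R →+* T ⧸ CT := (Ideal.Quotient.mk CT).comp (algebraMap R T)
  have hlen : ∀ K : Ideal R, C ≤ K → Module.length T (LocalizedModule p.primeCompl (R ⧸ K)) =
      Module.length (T ⧸ CT) ((T ⧸ CT) ⧸ K.map φ) := fun K hK => by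
    rw [length_localized_quot p K, ← Ideal.map_map (algebraMap R T) (Ideal.Quotient.mk CT)]
    refine Eq.trans ?_ (Module.length_eq_of_surjective (S := T) (R := T ⧸ CT) Ideal.Quotient.mk_surjective)
    exact (DoubleQuot.quotQuotEquivQuotOfLEₐ T (Ideal.map_mono hK)).toLinearEquiv.length_eq.symm
  have hcol : (C.colon (I : Set R)).map φ = annI (I.map φ) := by
    refine le_antisymm (Ideal.map_le_iff_le_comap.2 fun x hx => ?_) fun y hy => ?_
    · rw [Ideal.mem_comap, mem_annI]
      intro j hj
      refine Submodule.span_induction (fun v hv => ?_) (mul_zero _) (fun v w _ _ h1 h2 => by rw [mul_add, h1, h2, add_zero])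
        (fun c v _ h1 => by rw [smul_eq_mul, mul_left_comm, h1, mul_zero]) hj
      obtain ⟨i, hi, rfl⟩ := hv
      rw [← map_mul]
      exact Ideal.Quotient.eq_zero_iff_mem.2 (Ideal.mem_map_of_mem _ (by simpa [smul_eq_mul] using (Submodule.mem_colon.1 hx) i hi))
    · obtain ⟨y, rfl⟩ := Ideal.Quotient.mk_surjective y
      obtain ⟨⟨r, s⟩, hys⟩ := IsLocalization.surj p.primeCompl y
      obtain ⟨G, hG⟩ := IsNoetherian.noetherian I
      have hex : ∀ g ∈ G, ∃ t ∉ p, t * (r * g) ∈ C := fun g hg => by
        have h1 := mem_annI.mp hy _ (Ideal.mem_map_of_mem φ (hG ▸ Ideal.subset_span hg : g ∈ I))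
        rw [RingHom.comp_apply, ← map_mul, Ideal.Quotient.eq_zero_iff_mem] at h1
        have h2 := Ideal.mul_mem_left _ (algebraMap R T s) h1
        rw [← mul_assoc, mul_comm _ y, hys, ← map_mul,
          IsLocalization.algebraMap_mem_map_algebraMap_iff p.primeCompl] at h2
        exact h2
      choose! t ht htC using hex
      have hT : (∏ g ∈ G, t g) ∉ p := fun h => by
        obtain ⟨g, hg, hgp⟩ := hp.1.1.prod_mem_iff.1 h
        exact ht g hg hgp
      have hk : (∏ g ∈ G, t g) * r ∈ C.colon (I : Set R) := by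
        have hle : I ≤ C.colon {(∏ g ∈ G, t g) * r} := hG ▸ Ideal.span_le.2 fun g hg => by
          rw [SetLike.mem_coe, Submodule.mem_colon_singleton, smul_eq_mul]
          obtain ⟨w, hw⟩ := Finset.dvd_prod_of_mem t hg
          rw [hw, show g * (t g * w * r) = w * (t g * (r * g)) by ring]
          exact Ideal.mul_mem_left _ _ (htC g hg)
        rw [Submodule.mem_colon]
        intro i hi
        have := hle hi
        rw [Submodule.mem_colon_singleton, smul_eq_mul] at this
        rwa [smul_eq_mul, mul_comm]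
      have hu : IsUnit (φ ((∏ g ∈ G, t g) * s)) :=
        (IsLocalization.map_units T (⟨_, p.primeCompl.mul_mem hT s.2⟩ : p.primeCompl)).map (Ideal.Quotient.mk CT)
      rw [← Ideal.mul_unit_mem_iff_mem _ hu]
      have : Ideal.Quotient.mk CT y * φ ((∏ g ∈ G, t g) * s) = φ ((∏ g ∈ G, t g) * r) := by
        simp only at hys
        rw [RingHom.comp_apply, RingHom.comp_apply, map_mul (algebraMap R T), map_mul (algebraMap R T),
          ← map_mul (Ideal.Quotient.mk CT), ← hys]
        congr 1
        ring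
      rw [this]
      exact Ideal.mem_map_of_mem φ hk
  have hC0 : C.map φ = ⊥ := by
    rw [← Ideal.map_map (algebraMap R T) (Ideal.Quotient.mk CT), Ideal.map_quotient_self]
  have hle : C ≤ C.colon (I : Set R) := fun c hc => Submodule.mem_colon.2 fun i _ => by
    rw [smul_eq_mul]; exact C.mul_mem_right _ hc
  rw [hlen _ hle, hlen _ hCI, hlen _ le_rfl, hcol, hC0, length_add hd]
  exact ((Submodule.quotEquivOfEqBot (⊥ : Ideal (T ⧸ CT)) rfl).length_eq).symm

end Local

open MvPolynomial Filter

variable {k : Type u} [Field k] {n : ℕ}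

local notation "S" => MvPolynomial (Fin (n + 1)) k

theorem colon_isHomogeneous {C I : Ideal S} (hC : C.IsHomogeneous (CohB1.polyGrading n k))
    (hI : I.IsHomogeneous (CohB1.polyGrading n k)) :
    (C.colon (I : Set S)).IsHomogeneous (CohB1.polyGrading n k) :=
  isHomogeneous_of_component fun x hx e => by
    rw [Submodule.mem_colon] at hx ⊢
    intro i hi
    rw [smul_eq_mul, ← sum_homogeneousComponent i, Finset.mul_sum]
    refine sum_mem fun l _ => ?_
    rw [mul_comm, ← component_mul (homogeneousComponent_isHomogeneous l i)]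
    exact HomogIdeal.component_mem hC (by simpa [smul_eq_mul, mul_comm] using hx _ (HomogIdeal.component_mem hI hi l)) _

theorem coeff_link {C I : Ideal S} (hC : C.IsHomogeneous (CohB1.polyGrading n k))
    (hI : I.IsHomogeneous (CohB1.polyGrading n k)) [LocCoh.IsGorensteinRing (S ⧸ C)] (hCI : C ≤ I)
    {c : ℕ} (hcn : c ≤ n) (hc : (c : ℕ∞) ≤ C.height)
    {P Q R : Polynomial ℚ} (hP : IsHP C P) (hQ : IsHP I Q) (hR : IsHP (C.colon (I : Set S)) R) :
    R.coeff (n - c) = P.coeff (n - c) - Q.coeff (n - c) := by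
  classical
  set t := n - c with ht
  have hSdim : ringKrullDim S = ((n + 1 : ℕ) : WithBot ℕ∞) := by
    rw [MvPolynomial.ringKrullDim_of_isNoetherianRing, ringKrullDim_eq_zero_of_field, zero_add, Nat.card_fin]
  have hdimp : ∀ p : Ideal S, p.IsPrime → C ≤ p → ringKrullDim (S ⧸ p) ≤ ((t + 1 : ℕ) : WithBot ℕ∞) := fun p hp hle => by
    haveI := hp
    obtain ⟨s, hs⟩ := exists_dim (k := k) (n := n) (J := p) hp.ne_top
    have hform := DimFormula.height_add_ringKrullDim_quotient k (F := S) ⟨p, hp⟩
    rw [hSdim, hs] at hform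
    have h1 : (c : ℕ∞) ≤ p.height := hc.trans (Ideal.height_mono hle)
    have h2 : ((c + s : ℕ) : WithBot ℕ∞) ≤ ((n + 1 : ℕ) : WithBot ℕ∞) := by
      rw [← hform, Nat.cast_add]
      exact add_le_add_left (show (((c : ℕ∞)) : WithBot ℕ∞) ≤ _ from WithBot.coe_le_coe.mpr h1) _
    have h3 : c + s ≤ n + 1 := by exact_mod_cast h2
    rw [hs]
    exact_mod_cast (show s ≤ t + 1 by omega)
  have hdimC : ringKrullDim (S ⧸ C) ≤ ((t + 1 : ℕ) : WithBot ℕ∞) := by
    rw [ringKrullDim_quotient, Order.krullDim]
    refine iSup_le fun s => ?_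
    have hge : ∀ i, (s.head : PrimeSpectrum S).asIdeal ≤ (s i : PrimeSpectrum S).asIdeal := fun i => s.head_le i
    let s' : LTSeries (PrimeSpectrum.zeroLocus ((s.head : PrimeSpectrum S).asIdeal : Set S)) :=
      ⟨s.length, fun i => ⟨(s i).1, hge i⟩, fun i => s.step i⟩
    calc (s.length : WithBot ℕ∞) ≤ Order.krullDim (PrimeSpectrum.zeroLocus ((s.head : PrimeSpectrum S).asIdeal : Set S)) :=
          Order.LTSeries.length_le_krullDim s'
      _ = ringKrullDim (S ⧸ (s.head : PrimeSpectrum S).asIdeal) := (ringKrullDim_quotient _).symm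
      _ ≤ _ := hdimp _ (s.head : PrimeSpectrum S).isPrime s.head.2
  have hmin : ∀ p : Ideal S, p.IsPrime → C ≤ p → ringKrullDim (S ⧸ p) = ((t + 1 : ℕ) : WithBot ℕ∞) →
      p ∈ C.minimalPrimes := fun p hp hle hd => by
    haveI := hp
    obtain ⟨q, hq, hqp⟩ := Ideal.exists_minimalPrimes_le hle
    haveI := hq.1.1
    rcases eq_or_lt_of_le hqp with rfl | h
    · exact hq
    · have := (dim_lt_of_lt h).trans_le (hdimp q hq.1.1 hq.1.2)
      rw [hd] at this
      exact absurd this (lt_irrefl _)
  let ι := {p : Ideal S // p ∈ C.minimalPrimes ∧ ringKrullDim (S ⧸ p) = ((t + 1 : ℕ) : WithBot ℕ∞)}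
  haveI : Finite ι := ((C.finite_minimalPrimes_of_isNoetherianRing).subset fun p hp => hp.1).to_subtype
  letI := Fintype.ofFinite ι
  haveI hprime : ∀ i : ι, i.1.IsPrime := fun i => i.2.1.1.1
  have hgood : ∀ i : ι, ∃ W, IsHP i.1 W := fun i => by
    obtain ⟨W, hW, -⟩ := good i.1 (HomogIdeal.isHomogeneous_of_mem_minimalPrimes hC i.2.1)
    exact ⟨W, hW⟩
  choose W hW using hgood
  have hle : C ≤ C.colon (I : Set S) := fun x hx => Submodule.mem_colon.2 fun i _ => by
    rw [smul_eq_mul]; exact C.mul_mem_right _ hx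
  have key : ∀ {J : Ideal S}, C ≤ J → J.IsHomogeneous (CohB1.polyGrading n k) → ∀ {V : Polynomial ℚ}, IsHP J V →
      (∀ i : ι, lenAt J i.1 ≠ ⊤) ∧ V.coeff t = ∑ i : ι, ((lenAt J i.1).toNat : ℚ) * (W i).coeff t :=
    fun {J} hCJ hJ {V} hV => coeff_eq_sum t (fun i : ι => i.1) Subtype.val_injective (fun i => i.2.2) W hW J hJ
      ((dim_mono hCJ).trans hdimC)
      (fun p hp hJp hd => ⟨⟨p, hmin p hp (hCJ.trans hJp) hd, hd⟩, rfl⟩) V hV
  obtain ⟨-, hP'⟩ := key le_rfl hC hP
  obtain ⟨hQt, hQ'⟩ := key hCI hI hQ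
  obtain ⟨hRt, hR'⟩ := key hle (colon_isHomogeneous hC hI) hR
  rw [hP', hQ', hR', eq_sub_iff_add_eq, ← Finset.sum_add_distrib]
  refine Finset.sum_congr rfl fun i _ => ?_
  rw [← add_mul, ← Nat.cast_add, ← ENat.toNat_add (hRt i) (hQt i)]
  congr 3
  exact lenAt_link_gen i.1 C i.2.1 I hCI

theorem isHP_of_finrank_map {J : Ideal S} {P : Polynomial ℚ}
    (hP : ∃ j₀ : ℕ, ∀ j : ℕ, j₀ ≤ j →
      (Module.finrank k ↥(Submodule.map (Ideal.Quotient.mkₐ k J).toLinearMap (GrSyz.stdGr k (Fin (n + 1)) (j : ℤ))) : ℚ) =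
        P.eval (j : ℚ)) : IsHP J P := by
  obtain ⟨a, ha⟩ := hP
  refine eventually_atTop.mpr ⟨a, fun m hm => ?_⟩
  rw [← ha m hm]
  haveI := finite_homogeneous (k := k) (n := n) m
  let H := homogeneousSubmodule (Fin (n + 1)) k m
  have hstd : GrSyz.stdGr k (Fin (n + 1)) (m : ℤ) = H := by
    ext x
    rw [GrSyz.mem_stdGr_iff, mem_homogeneousSubmodule]
    simp only [IsHomogeneous, IsWeightedHomogeneous, Finsupp.weight_apply, Finsupp.sum, Pi.one_apply, smul_eq_mul,
      mul_one]
    refine forall₂_congr fun d _ => ?_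
    constructor <;> intro h <;> simp only [nsmul_eq_mul, mul_one, ← Nat.cast_sum, Nat.cast_inj] at h ⊢ <;> exact h
  rw [hstd, hfun]
  let g := (Ideal.Quotient.mkₐ k J).toLinearMap.domRestrict H
  have hr := g.finrank_range_add_finrank_ker
  rw [show LinearMap.range g = Submodule.map (Ideal.Quotient.mkₐ k J).toLinearMap H from LinearMap.range_domRestrict _ _] at hr
  have hk : Module.finrank k (LinearMap.ker g) = Module.finrank k ↥(J.restrictScalars k ⊓ H) := by
    refine LinearEquiv.finrank_eq ?_
    refine (Submodule.equivMapOfInjective H.subtype (Submodule.injective_subtype _) (LinearMap.ker g)).trans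
      (LinearEquiv.ofEq _ _ ?_)
    ext x
    simp only [Submodule.mem_map, LinearMap.mem_ker, Submodule.mem_inf, Submodule.restrictScalars_mem]
    constructor
    · rintro ⟨y, hy, rfl⟩
      exact ⟨Ideal.Quotient.eq_zero_iff_mem.mp hy, y.2⟩
    · rintro ⟨h1, h2⟩
      exact ⟨⟨x, h2⟩, Ideal.Quotient.eq_zero_iff_mem.mpr h1, rfl⟩
  rw [hk] at hr
  push_cast
  rw [← hr]
  push_cast
  ring

end Groth.Agent.CIHilb
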